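/-
Centralisers of involutions of the split torus, and their orbits under the Weyl group.
-/
import Cfsg.Agent.Lib.Chev.CyclTorus.Main
import Cfsg.Agent.Lib.Chev.HomSylow.Main
import Cfsg.Agent.Lib.Chev.RootSets
import Cfsg.Agent.Lib.Chev.Order

set_option autoImplicit false
set_option maxRecDepth 20000
set_option maxHeartbeats 1600000
set_option linter.unusedSectionVars false

namespace Cfsg.Agent.Chev.InvolOdd

open Cfsg.Lie Cfsg.Agent.Chev

/-- The parity of a coordinate of a root. -/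
def par (P : Pk) (j r : ℕ) : Bool := decide (P.rv r j % 2 = 0)

/-- The parities at the images of the fundamental roots. -/
def kap (P : Pk) (j : ℕ) (l : List ℕ) : List Bool := (List.range P.rank).map fun k => par P j (wl P l (P.sim k))

/-- The even positive roots outside a parabolic made negative. -/
def cG (P : Pk) (j : ℕ) (K g : List ℕ) : ℕ :=
  (P.allRoots.filter fun r => P.isPos r && par P j r && !(inJ P K r) && !(P.isPos (wl P g r))).length

/-- The even positive roots. -/
def nEven (P : Pk) (j : ℕ) : ℕ := (P.allRoots.filter fun r => P.isPos r && par P j r).length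

/-- The certificate for the stabiliser of a parity functional. -/
def ckCert (P : Pk) (j : ℕ) (K : List ℕ) (G O : List (List ℕ)) : Bool :=
  Nat.blt j P.rank && (K.all fun i => Nat.blt i P.rank && !Nat.beq i j) &&
    ((List.range P.rank).all fun i => Nat.beq i j || K.any fun k => Nat.beq k i) &&
    (G.all fun g => (g.all fun i => Nat.blt i P.rank) && (P.allRoots.all fun r => par P j (wl P g r) == par P j r) &&
      K.all fun k => P.isPos (wl P g (P.sim k))) &&
    decide (G.map fun g => vOf P j g).Nodup &&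
    (O.all fun l => l.all fun i => Nat.blt i P.rank) &&
    decide (O.map (kap P j)).Nodup && ((O.map (kap P j)).any fun m => m == kap P j []) &&
    O.all fun l => (List.range P.rank).all fun i => (O.map (kap P j)).any fun m => m == kap P j (l ++ [i])

/-- All patterns of a given length. -/
def allPat : ℕ → List (List Bool)
  | 0 => [[]]
  | n + 1 => (allPat n).flatMap fun m => [true :: m, false :: m]

theorem mem_allPat : ∀ m : List Bool, m ∈ allPat m.length
  | [] => List.mem_singleton.2 rfl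
  | b :: m => by
    simp only [List.length_cons, allPat, List.mem_flatMap]
    exact ⟨m, mem_allPat m, by cases b <;> simp⟩

/-- Every nontrivial pattern is reached. -/
def ckCover (P : Pk) (j j' : ℕ) (O O' : List (List ℕ)) : Bool :=
  (allPat P.rank).all fun m => (m.all id) || ((O.map (kap P j)).any fun x => x == m) ||
    (O'.map (kap P j')).any fun x => x == m

/-- The preimage of a parity functional in the torus. -/
def ckX (P : Pk) (j : ℕ) (x : List ℤ) : Bool :=
  P.allRoots.all fun r => decide ((((List.range P.rank).map fun i => x.getD i 0 * P.A i r).sum - P.rv r j) % 2 = 0)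

variable {D : ChevalleyDatum} {P : Pk} (h : Ok D P)
include h

/-- The stabiliser of a parity functional. -/
noncomputable def Stab (_h : Ok D P) (J : List ℕ) (j : ℕ) : Finset (Fin P.nroots → Fin P.nroots) := by
  classical exact (WJ P J).filter fun f => ∀ r : Fin P.nroots, par P j (f r).val = par P j r.val

/-- The even positive roots made negative. -/
def invE (_h : Ok D P) (j : ℕ) (f : Fin P.nroots → Fin P.nroots) : ℕ :=
  (Finset.univ.filter fun r : Fin P.nroots =>
    P.isPos r.val = true ∧ par P j r.val = true ∧ P.isPos (f r).val = false).card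

theorem mem_Stab {J : List ℕ} {j : ℕ} {f : Fin P.nroots → Fin P.nroots} :
    f ∈ Stab h J j ↔ f ∈ WJ P J ∧ ∀ r : Fin P.nroots, par P j (f r).val = par P j r.val := by
  classical
  rw [Stab, Finset.mem_filter]

theorem act_append {a b : List ℕ} (ha : WordOk P a) (hb : WordOk P b) : act P (a ++ b) = act P a ∘ act P b := by
  funext r
  apply Fin.ext
  simp only [Function.comp]
  rw [h.act_val (wordOk_append ha hb), wl_append, h.act_val ha, h.act_val hb]

theorem act_rev {a : List ℕ} (ha : WordOk P a) (r : Fin P.nroots) : act P a.reverse (act P a r) = r := by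
  apply Fin.ext
  rw [h.act_val fun x hx => ha x (List.mem_reverse.1 hx), h.act_val ha, h.wl_reverse a ha r r.isLt]

theorem par_ext {j : ℕ} (hj : j < P.rank) {a b : List ℕ} (ha : WordOk P a) (hb : WordOk P b)
    (e : kap P j a = kap P j b) {r : ℕ} (hr : r < P.nroots) : par P j (wl P a r) = par P j (wl P b r) := by
  have e' : ∀ k < P.rank, (P.rv (wl P a (P.sim k)) j : ZMod 2) = (P.rv (wl P b (P.sim k)) j : ZMod 2) := by
    intro k hk
    have h1 := List.map_inj_left.1 e k (List.mem_range.2 hk)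
    simp only [par, decide_eq_decide] at h1
    rw [← sub_eq_zero, ← Int.cast_sub, ZMod.intCast_zmod_eq_zero_iff_dvd]
    omega
  have h2 : (P.rv (wl P a r) j : ZMod 2) = (P.rv (wl P b r) j : ZMod 2) := by
    rw [h.rv_wl a ha r hr j hj, h.rv_wl b hb r hr j hj, Int.cast_sum, Int.cast_sum]
    refine Finset.sum_congr rfl fun k hk => ?_
    rw [Int.cast_mul, Int.cast_mul, e' k (Finset.mem_range.1 hk)]
  rw [← sub_eq_zero, ← Int.cast_sub, ZMod.intCast_zmod_eq_zero_iff_dvd] at h2
  simp only [par, decide_eq_decide]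
  omega

variable {j : ℕ} {K : List ℕ} {G O : List (List ℕ)}

theorem cert_spec (hck : ckCert P j K G O = true) :
    j < P.rank ∧ (∀ i ∈ K, i < P.rank ∧ i ≠ j) ∧ (∀ i < P.rank, i = j ∨ i ∈ K) ∧
    (∀ g ∈ G, WordOk P g ∧ (∀ r < P.nroots, par P j (wl P g r) = par P j r) ∧
      ∀ k ∈ K, P.isPos (wl P g (P.sim k)) = true) ∧
    (G.map fun g => vOf P j g).Nodup ∧ (∀ l ∈ O, WordOk P l) ∧ (O.map (kap P j)).Nodup ∧
    kap P j [] ∈ O.map (kap P j) ∧ ∀ l ∈ O, ∀ i < P.rank, kap P j (l ++ [i]) ∈ O.map (kap P j) := by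
  simp only [ckCert, Bool.and_eq_true, List.all_eq_true, List.any_eq_true, Bool.or_eq_true, Nat.blt_eq, nbeq,
    decide_eq_true_eq, Bool.not_eq_true', decide_eq_false_iff_not, List.mem_range, Pk.mem_allRoots,
    beq_iff_eq] at hck
  obtain ⟨⟨⟨⟨⟨⟨⟨⟨a, b⟩, c⟩, d⟩, e⟩, f⟩, g⟩, k⟩, m⟩ := hck
  refine ⟨a, b, fun i hi => ?_, fun x hx => ⟨(d x hx).1.1, (d x hx).1.2, (d x hx).2⟩, e, f, g, ?_, fun l hl i hi => ?_⟩
  · rcases c i hi with e | ⟨k, hk, e⟩
    · exact Or.inl e
    · exact Or.inr (e ▸ hk)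
  · obtain ⟨x, hx, e⟩ := k; exact e ▸ hx
  · obtain ⟨x, hx, e⟩ := m l hl i hi; exact e ▸ hx

theorem inJ_iff_zero (hK1 : ∀ i ∈ K, i < P.rank ∧ i ≠ j) (hK2 : ∀ i < P.rank, i = j ∨ i ∈ K) (hj : j < P.rank)
    (r : ℕ) : inJ P K r = true ↔ P.rv r j = 0 := by
  rw [inJ_iff]
  refine ⟨fun e => e j hj fun hx => (hK1 j hx).2 rfl, fun e m hm hmK => ?_⟩
  rcases hK2 m hm with rfl | hx
  · exact e
  · exact absurd hx hmK

theorem poin_one (J : List ℕ) : poin P J 1 = (WJ P J).card := by simp [poin]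

/-- The weighted sum over the stabiliser. -/
theorem stab_sum (hck : ckCert P j K G O = true) (hOK : P.ckOrb K = true) {J : List ℕ}
    (hJ : ∀ i < P.rank, i ∈ J) (hOJ : P.ckOrb J = true)
    (hnum : G.length * pev 1 (P.poinP K) * O.length = pev 1 (P.poinP J)) (q : ℕ) :
    ∑ f ∈ Stab h J j, q ^ invE h j f = pev q (pmul (psum (G.map (cG P j K))) (P.poinP K)) := by
  classical
  obtain ⟨hj, hK1, hK2, hG, hkey, hO, hmask, hnil, hclosed⟩ := cert_spec h hck
  have hjK := inJ_iff_zero h hK1 hK2 hj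
  have hfix : ∀ l, WordIn P K l → ∀ r < P.nroots, P.rv (wl P l r) j = P.rv r j := fun l hl r hr =>
    h.wl_outside hl hr hj fun hx => (hK1 j hx).2 rfl
  have hKJ : ∀ l, WordOk P l → act P l ∈ WJ P J := fun l hl =>
    h.mem_WJ.2 ⟨l, ⟨hl, fun i hi => hJ i (hl i hi)⟩, rfl⟩
  let gw : Fin G.length → List ℕ := fun a => G[a.val]
  have hgw : ∀ a, gw a ∈ G := fun a => List.getElem_mem _
  let Φ : Fin G.length × WJ P K → Fin P.nroots → Fin P.nroots := fun p => act P (gw p.1) ∘ p.2.1
  have hΦS : ∀ p, Φ p ∈ Stab h J j := by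
    rintro ⟨a, ⟨f, hf⟩⟩
    obtain ⟨l, hl, rfl⟩ := h.mem_WJ.1 hf
    obtain ⟨hg, hgp, -⟩ := hG _ (hgw a)
    refine (mem_Stab h).2 ⟨?_, fun r => ?_⟩
    · show act P (gw a) ∘ act P l ∈ WJ P J
      rw [← act_append h hg hl.1]
      exact hKJ _ (wordOk_append hg hl.1)
    · show par P j (act P (gw a) (act P l r)).val = _
      rw [h.act_val hg, hgp _ (act P l r).isLt, h.act_val hl.1, par, par, hfix l hl _ r.isLt]
  have hΦi : Function.Injective Φ := by
    rintro ⟨a, ⟨f, hf⟩⟩ ⟨b, ⟨f', hf'⟩⟩ e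
    obtain ⟨l, hl, rfl⟩ := h.mem_WJ.1 hf
    obtain ⟨l', hl', rfl⟩ := h.mem_WJ.1 hf'
    obtain ⟨hg, -, -⟩ := hG _ (hgw a)
    obtain ⟨hg', -, -⟩ := hG _ (hgw b)
    have e' : ∀ r < P.nroots, wl P (gw a ++ l) r = wl P (gw b ++ l') r :=
      (h.act_eq_iff (wordOk_append hg hl.1) (wordOk_append hg' hl'.1)).1 (by
        rw [act_append h hg hl.1, act_append h hg' hl'.1]; exact e)
    have hrevK : ∀ (g m : List ℕ), WordOk P g → WordIn P K m → ∀ r < P.nroots,
        P.rv (wl P (g ++ m).reverse r) j = P.rv (wl P g.reverse r) j := by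
      intro g m hg hm r hr
      rw [List.reverse_append, wl_append,
        hfix _ (h.wordIn_reverse hm) _ (h.wl_lt _ (fun x hx => hg x (List.mem_reverse.1 hx)) r hr)]
    have hv : vOf P j (gw a) = vOf P j (gw b) := by
      refine List.map_congr_left fun i hi => ?_
      have hi' := List.mem_range.1 hi
      rw [← hrevK _ l hg hl _ (h.sim_lt hi'), ← hrevK _ l' hg' hl' _ (h.sim_lt hi')]
      congr 1
      have hrev : WordOk P (gw b ++ l').reverse := fun x hx => wordOk_append hg' hl'.1 x (List.mem_reverse.1 hx)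
      set s := wl P (gw b ++ l').reverse (P.sim i) with hs
      have hslt : s < P.nroots := h.wl_lt _ hrev _ (h.sim_lt hi')
      have h1 : wl P (gw b ++ l') s = P.sim i := h.wl_reverse' (wordOk_append hg' hl'.1) (h.sim_lt hi')
      conv_lhs => rw [← h1, ← e' s hslt]
      rw [h.wl_reverse _ (wordOk_append hg hl.1) s hslt]
    have hab : a = b := by
      apply Fin.ext
      refine (hkey.getElem_inj_iff (hi := by simpa using a.isLt) (hj := by simpa using b.isLt)).1 ?_
      simpa [gw] using hv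
    subst hab
    refine Prod.ext rfl (Subtype.ext ?_)
    funext r
    have e1 := congrArg (act P (gw a).reverse) (congrFun e r)
    simp only [Φ, Function.comp] at e1
    rwa [act_rev h hg, act_rev h hg] at e1
  have hWK : (WJ P K).card = pev 1 (P.poinP K) := by rw [← poin_one h, h.poin_eq K hOK]
  have hWJ : (WJ P J).card = pev 1 (P.poinP J) := by rw [← poin_one h, h.poin_eq J hOJ]
  -- orbit and stabiliser
  have hmem : ∀ l, WordOk P l → kap P j l ∈ O.map (kap P j) := by
    intro l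
    induction l using List.reverseRecOn with
    | nil => exact fun _ => hnil
    | append_singleton l i ih =>
      intro hl
      have hl' : WordOk P l := fun x hx => hl x (by simp [hx])
      have hi : i < P.rank := hl i (by simp)
      obtain ⟨l0, hl0, e0⟩ := List.mem_map.1 (ih hl')
      have : kap P j (l ++ [i]) = kap P j (l0 ++ [i]) := by
        refine List.map_congr_left fun k hk => ?_
        rw [wl_append, wl_append]
        exact par_ext h hj hl' (hO l0 hl0) e0.symm (h.wl_lt [i] (by simpa [WordOk] using hi) _ (h.sim_lt (List.mem_range.1 hk)))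
      rw [this]
      exact hclosed l0 hl0 i hi
  let ow : Fin O.length → List ℕ := fun a => O[a.val]
  have how : ∀ a, WordOk P (ow a) := fun a => hO _ (List.getElem_mem _)
  let Ψ : Stab h J j × Fin O.length → WJ P J := fun p => ⟨p.1.1 ∘ act P (ow p.2), by
    obtain ⟨l, hl, e⟩ := h.mem_WJ.1 ((mem_Stab h).1 p.1.2).1
    rw [← e, ← act_append h hl.1 (how p.2)]
    exact hKJ _ (wordOk_append hl.1 (how p.2))⟩
  have hΨ : Function.Bijective Ψ := by
    constructor
    · rintro ⟨⟨f, hf⟩, a⟩ ⟨⟨f', hf'⟩, b⟩ e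
      have e' : f ∘ act P (ow a) = f' ∘ act P (ow b) := congrArg Subtype.val e
      have hab : a = b := by
        apply Fin.ext
        refine (hmask.getElem_inj_iff (hi := by simpa using a.isLt) (hj := by simpa using b.isLt)).1 ?_
        simp only [List.getElem_map]
        refine List.map_congr_left fun k hk => ?_
        have hk' := h.sim_lt (List.mem_range.1 hk)
        have e1 := congrArg (fun x : Fin P.nroots => par P j x.val) (congrFun e' ⟨_, hk'⟩)
        simp only [Function.comp] at e1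
        rw [((mem_Stab h).1 hf).2, ((mem_Stab h).1 hf').2, h.act_val (how a), h.act_val (how b)] at e1
        exact e1
      subst hab
      refine Prod.ext (Subtype.ext (funext fun r => ?_)) rfl
      have e1 := congrFun e' (act P (ow a).reverse r)
      simp only [Function.comp] at e1
      have hor : WordOk P (ow a).reverse := fun x hx => how a x (List.mem_reverse.1 hx)
      have e2 := act_rev h hor r
      rw [List.reverse_reverse] at e2
      rwa [e2] at e1
    · rintro ⟨f, hf⟩
      obtain ⟨l, hl, rfl⟩ := h.mem_WJ.1 hf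
      obtain ⟨l0, hl0, e0⟩ := List.mem_map.1 (hmem l hl.1)
      obtain ⟨n, hn, rfl⟩ := List.getElem_of_mem hl0
      have hrev : WordOk P (ow ⟨n, hn⟩).reverse := fun x hx => how _ x (List.mem_reverse.1 hx)
      refine ⟨⟨⟨act P (l ++ (ow ⟨n, hn⟩).reverse), (mem_Stab h).2 ⟨hKJ _ (wordOk_append hl.1 hrev), fun r => ?_⟩⟩,
        ⟨n, hn⟩⟩, Subtype.ext ?_⟩
      · rw [h.act_val (wordOk_append hl.1 hrev), wl_append,
          par_ext h hj hl.1 (how ⟨n, hn⟩) e0.symm (h.wl_lt _ hrev _ r.isLt), h.wl_reverse' (how _) r.isLt]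
      · show act P (l ++ (ow ⟨n, hn⟩).reverse) ∘ act P (ow ⟨n, hn⟩) = act P l
        funext r
        rw [act_append h hl.1 hrev]
        simp only [Function.comp]
        rw [act_rev h (how _)]
  have hcard : (Stab h J j).card * O.length = (WJ P J).card := by
    have := Nat.card_eq_of_bijective Ψ hΨ
    simpa [Nat.card_prod] using this
  have hOpos : 0 < O.length := by
    obtain ⟨x, hx, -⟩ := List.mem_map.1 hnil
    exact List.length_pos_of_mem hx
  have hStab : (Stab h J j).card = G.length * (WJ P K).card :=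
    Nat.eq_of_mul_eq_mul_right hOpos (by rw [hcard, hWJ, hWK, hnum])
  have himg : Finset.univ.image Φ = Stab h J j := by
    refine Finset.eq_of_subset_of_card_le (fun f hf => ?_) ?_
    · obtain ⟨p, -, rfl⟩ := Finset.mem_image.1 hf
      exact hΦS p
    · rw [Finset.card_image_of_injective _ hΦi, hStab, Finset.card_univ, Fintype.card_prod, Fintype.card_fin,
        Fintype.card_coe]
  rw [← himg, Finset.sum_image fun _ _ _ _ e => hΦi e, pev_pmul, pev_psum, ← h.poin_eq K hOK, List.map_map,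
    ← Fin.sum_univ_fun_getElem, Finset.sum_mul, poin, Fintype.sum_prod_type]
  refine Finset.sum_congr rfl fun a _ => ?_
  rw [Finset.mul_sum, ← Finset.sum_coe_sort (WJ P K)]
  refine Finset.sum_congr rfl fun f _ => ?_
  obtain ⟨l, hl, hfl⟩ := h.mem_WJ.1 f.2
  obtain ⟨hg, -, hgk⟩ := hG _ (hgw a)
  show q ^ invE h j (Φ (a, f)) = q ^ cG P j K (gw a) * q ^ invJ P K f.1
  rw [← pow_add]
  congr 1
  have hlr := h.wordIn_reverse hl
  rw [invE, ← Finset.card_filter_add_card_filter_not (s := Finset.univ.filter fun r : Fin P.nroots =>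
    P.isPos r.val = true ∧ par P j r.val = true ∧ P.isPos (Φ (a, f) r).val = false)
    (fun r : Fin P.nroots => inJ P K r.val = false)]
  have hval : ∀ r : Fin P.nroots, ((Φ (a, f)) r).val = wl P (gw a) (wl P l r.val) := fun r => by
    show (act P (gw a) (f.1 r)).val = _
    rw [← hfl, h.act_val hg, h.act_val hl.1]
  -- positivity outside the parabolic is preserved
  have hpres : ∀ m, WordIn P K m → ∀ r < P.nroots, inJ P K r = false → P.isPos r = true →
      P.isPos (wl P m r) = true := by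
    intro m hm r hr hrK hp
    have h0 : P.rv r j ≠ 0 := fun e => by rw [(hjK r).2 e] at hrK; exact Bool.noConfusion hrK
    have h1 := (h.rv_sign hr hj).1 hp
    exact h.pos_of_rv (h.wl_lt m hm.1 r hr) hj (by rw [hfix m hm r hr]; omega)
  congr 1
  · rw [cG, Pk.allRoots, ← List.toFinset_card_of_nodup (List.nodup_range.filter _)]
    refine Finset.card_bij (fun r _ => wl P l r.val) (fun r hr => ?_) (fun r _ r' _ e => ?_) (fun s hs => ?_)
    · simp only [Finset.mem_filter, Finset.mem_univ, true_and] at hr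
      obtain ⟨⟨hp, hev, hneg⟩, hrK⟩ := hr
      rw [hval] at hneg
      simp only [List.mem_toFinset, List.mem_filter, Pk.allRoots, List.mem_range, Bool.and_eq_true,
        Bool.not_eq_true']
      refine ⟨h.wl_lt l hl.1 _ r.isLt, ⟨⟨hpres l hl _ r.isLt hrK hp, ?_⟩, ?_⟩, hneg⟩
      · rw [par, hfix l hl _ r.isLt]; exact hev
      · rw [h.inJ_wl hl r.isLt]; exact hrK
    · have e' := congrArg (wl P l.reverse) e
      rw [h.wl_reverse l hl.1 _ r.isLt, h.wl_reverse l hl.1 _ r'.isLt] at e'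
      exact Fin.ext e'
    · simp only [List.mem_toFinset, List.mem_filter, Pk.allRoots, List.mem_range, Bool.and_eq_true,
        Bool.not_eq_true'] at hs
      obtain ⟨hsn, ⟨⟨hp, hev⟩, hsK⟩, hneg⟩ := hs
      refine ⟨⟨wl P l.reverse s, h.wl_lt _ hlr.1 s hsn⟩, ?_, h.wl_reverse' hl.1 hsn⟩
      simp only [Finset.mem_filter, Finset.mem_univ, true_and]
      refine ⟨⟨hpres _ hlr s hsn hsK hp, ?_, ?_⟩, ?_⟩
      · rw [par, hfix _ hlr s hsn]; exact hev
      · rw [hval]
        show P.isPos (wl P (gw a) (wl P l (wl P l.reverse s))) = false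
        rw [h.wl_reverse' hl.1 hsn]; exact hneg
      · rw [h.inJ_wl hlr hsn]; exact hsK
  · rw [Ok.invJ_def]
    congr 1
    ext r
    simp only [Finset.mem_filter, Finset.mem_univ, true_and, Bool.not_eq_false]
    have hlt := h.wl_lt l hl.1 r.val r.isLt
    constructor
    · rintro ⟨⟨hp, -, hneg⟩, hrK⟩
      refine ⟨hrK, hp, ?_⟩
      rw [hval] at hneg
      rw [← hfl, h.act_val hl.1]
      by_contra hc
      rw [h.pos_of_simple hg (fun i hi _ => hgk i hi) (by rw [h.inJ_wl hl r.isLt]; exact hrK)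
        (by simpa using hc)] at hneg
      exact Bool.noConfusion hneg
    · rintro ⟨hrK, hp, hneg⟩
      refine ⟨⟨hp, ?_, ?_⟩, hrK⟩
      · rw [par, (hjK r.val).1 hrK]; rfl
      · rw [hval]
        rw [← hfl, h.act_val hl.1] at hneg
        have h1 : P.isPos (P.ng (wl P l r.val)) = true := (h.ng_pos_iff hlt).2 hneg
        have h2 : inJ P K (P.ng (wl P l r.val)) = true := by
          rw [hjK, h.rv_ng hlt hj, hfix l hl _ r.isLt, (hjK r.val).1 hrK, neg_zero]
        have h3 := h.pos_of_simple hg (fun i hi _ => hgk i hi) h2 h1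
        rw [h.wl_ng _ hg _ hlt] at h3
        exact (h.ng_pos_iff (h.wl_lt _ hg _ hlt)).1 h3

variable {F : Type*} [Field F]

theorem negS_tgt {l : List ℕ} (hl : WordOk P l) {r s k : ℕ} (hr : negS P l r) (hs : negS P l s) (hk : k < P.len r s) :
    negS P l (P.tgt r s k) := by
  obtain ⟨hr1, hr2⟩ := hr
  obtain ⟨hs1, hs2⟩ := hs
  have hrn := (P.isPos_iff.1 hr1).2
  have hsn := (P.isPos_iff.1 hs1).2
  refine ⟨(h.pos_tgt hr1 hs1 hk).1, ?_⟩
  rw [← Bool.not_eq_true]
  intro hp
  obtain ⟨m, hm, hpos⟩ := h.exists_pos_coord hp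
  have htn := h.tgt_lt hrn hsn hk
  rw [h.rv_wl l hl _ htn m hm] at hpos
  have e : ∑ i ∈ Finset.range P.rank, P.rv (P.tgt r s k) i * P.rv (wl P l (P.sim i)) m =
      (k + 1) * P.rv (wl P l r) m + P.rv (wl P l s) m := by
    rw [h.rv_wl l hl r hrn m hm, h.rv_wl l hl s hsn m hm, Finset.mul_sum, ← Finset.sum_add_distrib]
    refine Finset.sum_congr rfl fun i hi => ?_
    rw [h.rv_additive hrn hsn hk (Finset.mem_range.1 hi)]; ring
  have h1 := (h.rv_sign (h.wl_lt l hl r hrn) hm).2 hr2
  have h2 := (h.rv_sign (h.wl_lt l hl s hsn) hm).2 hs2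
  rw [e] at hpos
  nlinarith

theorem par_tgt (hj : j < P.rank) {r s k : ℕ} (hr : r < P.nroots) (hs : s < P.nroots) (hk : k < P.len r s)
    (h1 : par P j r = true) (h2 : par P j s = true) : par P j (P.tgt r s k) = true := by
  simp only [par, decide_eq_true_eq] at h1 h2 ⊢
  rw [h.rv_additive hr hs hk hj, Int.add_emod, Int.mul_emod, h1, h2]
  simp

theorem closedP_even (hj : j < P.rank) : ClosedP P (fun r => P.isPos r = true ∧ par P j r = true) :=
  ⟨fun _ hr => hr.1, fun r s hr hs k hk => ⟨(h.pos_tgt hr.1 hs.1 hk).1,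
    par_tgt h hj (P.isPos_iff.1 hr.1).2 (P.isPos_iff.1 hs.1).2 hk hr.2 hs.2⟩⟩

theorem closedP_negS {l : List ℕ} (hl : WordOk P l) : ClosedP P (negS P l) :=
  ⟨fun _ hr => hr.1, fun _ _ hr hs _ hk => negS_tgt h hl hr hs hk⟩

theorem card_genR_pred [Fintype F] (hC : P.ckComm = true) {S : ℕ → Prop} [DecidablePred S] (hS : ClosedP P S) :
    Nat.card (h.genR (F := F) S) = Fintype.card F ^ (Finset.univ.filter fun r : Fin P.nroots => S r.val).card := by
  classical
  set L := (posL P).filter fun r => decide (S r) with hL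
  have hmem : ∀ r, r ∈ L ↔ S r := fun r => by
    simp only [hL, List.mem_filter, mem_posL, decide_eq_true_eq]
    exact ⟨fun e => e.2, fun e => ⟨hS.1 r e, e⟩⟩
  have hsort : L.Pairwise (· < ·) := posL_sorted.filter _
  rw [le_antisymm (h.genR_mono fun r hr => (hmem r).2 hr) (h.genR_mono fun r hr => (hmem r).1 hr),
    h.card_genR_list hC hsort (fun r hr => hS.1 r ((hmem r).1 hr))
      (fun r hr s hs k hk => (hmem _).2 (hS.2 r s ((hmem r).1 hr) ((hmem s).1 hs) k hk))]
  congr 1
  rw [← List.toFinset_card_of_nodup (hsort.imp fun h' => Nat.ne_of_lt h')]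
  refine (Finset.card_bij (fun r _ => r.val) (fun r hr => List.mem_toFinset.2 ((hmem _).2 (Finset.mem_filter.1 hr).2))
    (fun a _ b _ e => Fin.ext e) fun r hr => ?_).symm
  have hr' := (hmem r).1 (List.mem_toFinset.1 hr)
  exact ⟨⟨r, (P.isPos_iff.1 (hS.1 r hr')).2⟩, Finset.mem_filter.2 ⟨Finset.mem_univ _, hr'⟩, rfl⟩

theorem conj_word {l : List ℕ} (hl : WordOk P l) (c : Fin P.rank → Fˣ) :
    ∃ c', h.nW l * h.hHom c * (h.nW l)⁻¹ = h.hHom c' ∧
      ∀ r < P.nroots, hchar P c' (wl P l r) = hchar P c r := by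
  obtain ⟨c', hc'⟩ := h.mem_diagonal_iff.1 ((Subgroup.mem_normalizer_iff.1 (h.nW_normalizer (F := F) l hl) _).1
    (h.mem_diagonal_iff.2 ⟨c, rfl⟩ : h.hHom c ∈ D.diagonalSubgroup F))
  exact ⟨c', hc'.symm, fun r hr => CyclTorus.char_wl h hl hc'.symm hr⟩

/-- The character of an involution with prescribed parities. -/
theorem exists_parity (hx : ∃ x, ckX P j x = true) :
    ∃ c : Fin P.rank → Fˣ, ∀ r < P.nroots, hchar P c r = if par P j r then (1 : F) else -1 := by
  obtain ⟨x, hx⟩ := hx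
  refine ⟨fun i => (-1) ^ x.getD i 0, fun r hr => ?_⟩
  have e : hchar P (fun i : Fin P.rank => (-1 : Fˣ) ^ x.getD i 0) r =
      (-1 : F) ^ (((List.range P.rank).map fun i => x.getD i 0 * P.A i r).sum) := by
    rw [hchar, ← List.sum_toFinset _ List.nodup_range, List.toFinset_range,
      ← Fin.sum_univ_eq_sum_range (fun i => x.getD i 0 * P.A i r), ← prod_zpow (neg_ne_zero.2 one_ne_zero)]
    refine Finset.prod_congr rfl fun i _ => ?_
    rw [Units.val_zpow_eq_zpow_val, Units.val_neg, Units.val_one, zpow_mul]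
  have h1 := List.all_eq_true.1 hx r ((Pk.mem_allRoots P).2 hr)
  rw [decide_eq_true_eq] at h1
  rw [e]
  by_cases hp : P.rv r j % 2 = 0
  · rw [par, decide_eq_true hp, if_pos rfl, Even.neg_one_zpow (Int.even_iff.2 (by omega))]
  · rw [par, decide_eq_false hp, if_neg Bool.false_ne_true, Odd.neg_one_zpow (Int.odd_iff.2 (by omega))]

theorem one_ne_neg_one (hq : ringChar F ≠ 2) : (-1 : F) ≠ 1 := Ring.neg_one_ne_one_of_char_ne_two hq

/-- A fixed element of the positive unipotent group involves only even roots. -/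
theorem fixed_even (hC : P.ckComm = true) (hq : ringChar F ≠ 2) {c : Fin P.rank → Fˣ}
    (hc : ∀ r < P.nroots, hchar P c r = if par P j r then (1 : F) else -1)
    {v : GL D.Idx F} (hv : v ∈ D.posUnipotent F) (e : h.hHom c * v * (h.hHom c)⁻¹ = v) :
    v ∈ h.genR (fun r => P.isPos r = true ∧ par P j r = true) := by
  obtain ⟨x, rfl⟩ := h.pos_normal_form hC hv
  have e' : ((posL P).map fun r => h.xG r (hchar P c r * x r)).prod = ((posL P).map fun r => h.xG r (x r)).prod := by
    rw [← MulAut.conj_apply (h.hHom c), map_list_prod, List.map_map] at e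
    rw [← e]
    refine congrArg List.prod (List.map_congr_left fun r hr => ?_)
    exact (h.hHom_xG c (P.isPos_iff.1 (mem_posL.1 hr)).2 (x r)).symm
  have hz := h.prod_unique (posL P) posL_sorted (fun r hr => mem_posL.1 hr) _ _ e'
  refine list_prod_mem fun y hy => ?_
  obtain ⟨r, hr, rfl⟩ := List.mem_map.1 hy
  by_cases hp : par P j r = true
  · exact h.xG_mem_genR ⟨mem_posL.1 hr, hp⟩ _
  · have h2 := hz r hr
    rw [hc r (P.isPos_iff.1 (mem_posL.1 hr)).2, if_neg hp] at h2
    have h3 : ((-1 : F) - 1) * x r = 0 := by linear_combination h2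
    rw [(mul_eq_zero.1 h3).resolve_left (sub_ne_zero.2 (one_ne_neg_one h hq)), h.xG_zero]
    exact one_mem _

/-- The order of the centraliser of an involution of the torus. -/
theorem card_centralizer [Fintype F] (hC : P.ckComm = true) (hq : ringChar F ≠ 2) (hj : j < P.rank) {J : List ℕ}
    (hJ : ∀ i < P.rank, i ∈ J) {c : Fin P.rank → Fˣ}
    (hc : ∀ r < P.nroots, hchar P c r = if par P j r then (1 : F) else -1) :
    Nat.card ↥(D.group F ⊓ Subgroup.centralizer ({h.hHom c} : Set (GL D.Idx F))) =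
      Fintype.card F ^ nEven P j * Nat.card (D.diagonalSubgroup F) *
        ∑ f ∈ Stab h J j, Fintype.card F ^ invE h j f := by
  classical
  set t := h.hHom c with ht
  set E : ℕ → Prop := fun r => P.isPos r = true ∧ par P j r = true with hE
  set Z := D.group F ⊓ Subgroup.centralizer ({t} : Set (GL D.Idx F)) with hZ
  have htd : t ∈ D.diagonalSubgroup F := h.mem_diagonal_iff.2 ⟨c, rfl⟩
  have memZ : ∀ g, g ∈ Z ↔ g ∈ D.group F ∧ t * g = g * t := fun g => by
    rw [hZ, Subgroup.mem_inf, Subgroup.mem_centralizer_iff]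
    simp
  have hTZ : ∀ d ∈ D.diagonalSubgroup F, d ∈ Z := fun d hd => by
    obtain ⟨cd, rfl⟩ := h.mem_diagonal_iff.1 hd
    exact (memZ _).2 ⟨h.diagonal_le_group hd, by rw [ht, ← map_mul, ← map_mul, mul_comm]⟩
  have hEZ : h.genR (F := F) E ≤ Z := h.genR_le fun r hr s => by
    have hrn := (P.isPos_iff.1 hr.1).2
    refine (memZ _).2 ⟨h.mem_group_of_xG r s, mul_inv_eq_iff_eq_mul.1 ?_⟩
    rw [ht, h.hHom_xG c hrn, hc r hrn, if_pos hr.2, one_mul]
  have hsel : ∀ f ∈ Stab h J j, ∃ l, WordOk P l ∧ act P l = f := fun f hf => by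
    obtain ⟨l, hl, e⟩ := h.mem_WJ.1 ((mem_Stab h).1 hf).1
    exact ⟨l, hl.1, e⟩
  choose! wd hwd using hsel
  have hnZ : ∀ f ∈ Stab h J j, h.nW (F := F) (wd f) ∈ Z := fun f hf => by
    obtain ⟨hl, e⟩ := hwd f hf
    refine (memZ _).2 ⟨h.monomial_le_group (h.nW_mem _ hl), ?_⟩
    obtain ⟨c', hc', hch⟩ := conj_word h hl c
    have : h.hHom c' = t := by
      refine CyclTorus.hHom_ext_char h fun r hr => ?_
      have hrev : WordOk P (wd f).reverse := fun x hx => hl x (List.mem_reverse.1 hx)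
      set s := wl P (wd f).reverse r with hs
      have hslt := h.wl_lt _ hrev r hr
      have e1 : wl P (wd f) s = r := h.wl_reverse' hl hr
      rw [← e1, hch s hslt, hc s hslt, hc _ (h.wl_lt _ hl s hslt)]
      have h3 := ((mem_Stab h).1 hf).2 ⟨s, hslt⟩
      rw [← e, h.act_val hl] at h3
      rw [h3]
    rw [← ht, this] at hc'
    exact (mul_inv_eq_iff_eq_mul.1 hc').symm
  let T := Σ f : Stab h J j, (D.diagonalSubgroup F × h.genR (F := F) E) ×
    h.genR (F := F) (fun r => negS P (wd f.1) r ∧ E r)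
  let Φ : T → Z := fun x => ⟨x.2.1.2.1 * x.2.1.1.1 * h.nW (wd x.1.1) * x.2.2.1,
    mul_mem (mul_mem (mul_mem (hEZ x.2.1.2.2) (hTZ _ x.2.1.1.2)) (hnZ _ x.1.2))
      (hEZ (h.genR_mono (fun _ hr => hr.2) x.2.2.2))⟩
  have hEU : h.genR (F := F) E ≤ D.posUnipotent F := h.genR_le fun r hr s => h.xG_mem_pos hr.1 s
  have hΦ : Function.Bijective Φ := by
    constructor
    · rintro ⟨f, ⟨d, v⟩, u⟩ ⟨f', ⟨d', v'⟩, u'⟩ e
      have e' : v.1 * d.1 * h.nW (wd f.1) * u.1 = v'.1 * d'.1 * h.nW (wd f'.1) * u'.1 := congrArg Subtype.val e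
      obtain ⟨hl, hf⟩ := hwd _ f.2
      obtain ⟨hl', hf'⟩ := hwd _ f'.2
      have hb : v.1 * d.1 ∈ D.borelSubgroup F :=
        mul_mem (Subgroup.mem_sup_left (hEU v.2)) (Subgroup.mem_sup_right d.2)
      have hb' : v'.1 * d'.1 ∈ D.borelSubgroup F :=
        mul_mem (Subgroup.mem_sup_left (hEU v'.2)) (Subgroup.mem_sup_right d'.2)
      have hun : u.1 ∈ h.genR (negS P (wd f.1)) := h.genR_mono (fun _ hr => hr.1) u.2
      have hun' : u'.1 ∈ h.genR (negS P (wd f'.1)) := h.genR_mono (fun _ hr => hr.1) u'.2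
      have h1 := h.bruhat_unique hC hb hb' hl hl' (one_mem _) (one_mem _) (h.negS_le_pos _ hun)
        (h.negS_le_pos _ hun') (by simpa using e')
      have hff : f = f' := Subtype.ext (by
        rw [← hf, ← hf', h.act_eq_iff hl hl']
        exact fun r hr => h.wl_eq_of_mem hl hl' h1 hr)
      subst hff
      obtain ⟨eb, eu⟩ := h.bruhat_factor hl (one_mem _) hb hb' hun hun' (by simpa using e')
      have h2 : v'.1⁻¹ * v.1 ∈ D.posUnipotent F ⊓ D.diagonalSubgroup F :=
        Subgroup.mem_inf.2 ⟨mul_mem (inv_mem (hEU v'.2)) (hEU v.2), by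
          rw [show v'.1⁻¹ * v.1 = v'.1⁻¹ * (v.1 * d.1) * d.1⁻¹ by group, eb, inv_mul_cancel_left]
          exact mul_mem d'.2 (inv_mem d.2)⟩
      rw [h.pos_inf_diagonal, Subgroup.mem_bot, inv_mul_eq_one] at h2
      have h4 : d.1 = d'.1 := by rw [h2] at eb; exact mul_left_cancel eb
      rw [Subtype.ext h4, Subtype.ext h2.symm, Subtype.ext eu]
    · rintro ⟨g, hg⟩
      obtain ⟨hgG, hgc⟩ := (memZ g).1 hg
      obtain ⟨b, hb, l, hl, u, hu, rfl⟩ := h.bruhat_exists hC hgG
      set n := h.nW (F := F) l with hn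
      have hn0 : n * t * n⁻¹ ∈ D.diagonalSubgroup F :=
        (Subgroup.mem_normalizer_iff.1 (h.nW_normalizer l hl) t).1 htd
      have key : t * u * t⁻¹ ∈ h.genR (negS P l) := by
        have hle : h.genR (F := F) (negS P l) ≤ (h.genR (negS P l)).comap (MulAut.conj t).toMonoidHom := by
          refine h.genR_le fun r hr s => ?_
          rw [Subgroup.mem_comap, MulEquiv.toMonoidHom_eq_coe, MonoidHom.coe_coe, MulAut.conj_apply, ht,
            h.hHom_xG c (P.isPos_iff.1 hr.1).2]
          exact h.xG_mem_genR hr _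
        simpa using hle hu
      have hb' : t * b * (n * t * n⁻¹)⁻¹ ∈ D.borelSubgroup F :=
        mul_mem (mul_mem (Subgroup.mem_sup_right htd) hb) (inv_mem (Subgroup.mem_sup_right hn0))
      have e : b * (n * 1) * u = t * b * (n * t * n⁻¹)⁻¹ * (n * 1) * (t * u * t⁻¹) := by
        rw [show t * b * (n * t * n⁻¹)⁻¹ * (n * 1) * (t * u * t⁻¹) = t * (b * n * u) * t⁻¹ by group, mul_one,
          hgc, mul_inv_cancel_right]
      obtain ⟨eb, eu⟩ := h.bruhat_factor hl (one_mem _) hb hb' hu key e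
      obtain ⟨v, hv, d, hd, rfl⟩ := h.mem_borel hb
      have hdc : t * d = d * t := ((memZ d).1 (hTZ d hd)).2
      have e2 : (t * v * t⁻¹)⁻¹ * v = d * (t * (n * t * n⁻¹)⁻¹) * d⁻¹ := by
        have : v * d = t * v * t⁻¹ * (d * (t * (n * t * n⁻¹)⁻¹)) := by
          rw [← mul_assoc d, ← hdc]
          conv_lhs => rw [eb]
          group
        rw [eq_mul_inv_iff_mul_eq, mul_assoc, this]
        group
      have h0 : (t * v * t⁻¹)⁻¹ * v ∈ D.posUnipotent F ⊓ D.diagonalSubgroup F :=
        Subgroup.mem_inf.2 ⟨mul_mem (inv_mem ((Subgroup.mem_normalizer_iff.1 (h.diagonal_normalizes htd) _).1 hv)) hv,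
          e2 ▸ mul_mem (mul_mem hd (mul_mem htd (inv_mem hn0))) (inv_mem hd)⟩
      rw [h.pos_inf_diagonal, Subgroup.mem_bot] at h0
      have hvfix := inv_mul_eq_one.1 h0
      have h3 := e2.symm.trans h0
      rw [conj_eq_one_iff, mul_inv_eq_one] at h3
      have hst : act P l ∈ Stab h J j := by
        refine (mem_Stab h).2 ⟨h.mem_WJ.2 ⟨l, ⟨hl, fun i hi => hJ i (hl i hi)⟩, rfl⟩, fun r => ?_⟩
        have h4 := CyclTorus.char_wl h hl h3.symm r.isLt
        rw [hc _ (h.wl_lt l hl _ r.isLt), hc _ r.isLt] at h4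
        rw [h.act_val hl]
        revert h4
        cases par P j (wl P l r.val) <;> cases par P j r.val <;> simp [one_ne_neg_one h hq, (one_ne_neg_one h hq).symm]
      obtain ⟨hl', hf⟩ := hwd _ hst
      have heq := (h.act_eq_iff hl' hl).1 hf
      set d₀ := (h.nW (F := F) (wd (act P l)))⁻¹ * h.nW l with hd₀
      have hd0 : d₀ ∈ D.diagonalSubgroup F := h.mem_diagonal_of_wl_eq hl' hl heq
      have hd' := (Subgroup.mem_normalizer_iff.1 (h.nW_normalizer (F := F) _ hl') d₀).1 hd0
      have huE : u ∈ h.genR (fun r => negS P (wd (act P l)) r ∧ E r) := by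
        refine h.genR_inter hC (closedP_negS h hl') (closedP_even h hj)
          (h.genR_mono (fun r hr => ⟨hr.1, by rw [heq r (P.isPos_iff.1 hr.1).2]; exact hr.2⟩) hu) ?_
        exact fixed_even h hC hq hc (h.negS_le_pos _ hu) eu.symm
      refine ⟨⟨⟨_, hst⟩, ⟨⟨d * (h.nW (wd (act P l)) * d₀ * (h.nW (wd (act P l)))⁻¹), mul_mem hd hd'⟩,
        ⟨v, fixed_even h hC hq hc hv hvfix⟩⟩, ⟨u, huE⟩⟩, Subtype.ext ?_⟩
      show v * (d * _) * h.nW (wd (act P l)) * u = v * d * n * u
      rw [hd₀, hn]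
      group
  haveI : Finite (GL D.Idx F) := inferInstance
  rw [← Nat.card_eq_of_bijective Φ hΦ, Nat.card_sigma, Finset.mul_sum, ← Finset.sum_coe_sort (Stab h J j)]
  refine Finset.sum_congr rfl fun f _ => ?_
  obtain ⟨hl, hf⟩ := hwd _ f.2
  rw [Nat.card_prod, Nat.card_prod, card_genR_pred h hC (closedP_even h hj),
    card_genR_pred h hC ((closedP_negS h hl).inter (closedP_even h hj)), mul_comm (Nat.card _)]
  congr 2
  · rw [nEven, Pk.allRoots, ← List.toFinset_card_of_nodup (List.nodup_range.filter _)]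
    congr 1
    refine Finset.card_bij (fun r _ => r.val) (fun r hr => ?_) (fun a _ b _ e => Fin.ext e) fun r hr => ?_
    · simpa [hE, Pk.allRoots] using (Finset.mem_filter.1 hr).2
    · simp only [List.mem_toFinset, List.mem_filter, Pk.allRoots, List.mem_range, Bool.and_eq_true] at hr
      exact ⟨⟨r, hr.1⟩, Finset.mem_filter.2 ⟨Finset.mem_univ _, hr.2⟩, rfl⟩
  · rw [invE]
    refine congrArg Finset.card (Finset.filter_congr fun r _ => ?_)
    simp only [negS, hE]
    constructor
    · rintro ⟨⟨hp, hn⟩, -, hev⟩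
      exact ⟨hp, hev, by rw [← hf, h.act_val hl]; exact hn⟩
    · rintro ⟨hp, hev, hn⟩
      exact ⟨⟨hp, by rwa [← hf, h.act_val hl] at hn⟩, hp, hev⟩

/-- Every involution of the torus is conjugate to one of two. -/
theorem exists_rep (hq : ringChar F ≠ 2) {j' : ℕ} {O' : List (List ℕ)} (hcov : ckCover P j j' O O' = true)
    (hO : ∀ l ∈ O, WordOk P l) (hO' : ∀ l ∈ O', WordOk P l) {c₁ c₂ : Fin P.rank → Fˣ}
    (h1 : ∀ r < P.nroots, hchar P c₁ r = if par P j r then (1 : F) else -1)
    (h2 : ∀ r < P.nroots, hchar P c₂ r = if par P j' r then (1 : F) else -1)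
    {d : GL D.Idx F} (hd : d ∈ D.diagonalSubgroup F) (hsq : d * d = 1) (hne : d ≠ 1) :
    ∃ g ∈ D.group F, d = g * h.hHom c₁ * g⁻¹ ∨ d = g * h.hHom c₂ * g⁻¹ := by
  classical
  obtain ⟨c, rfl⟩ := h.mem_diagonal_iff.1 hd
  have hpm : ∀ r < P.nroots, hchar P c r = 1 ∨ hchar P c r = -1 := by
    intro r hr
    have e1 := HomSylow.hchar_of_hHom_one h (c := c * c) (by rw [map_mul, hsq]) hr
    refine mul_self_eq_one_iff.1 ?_
    rw [← e1, hchar, hchar, ← Finset.prod_mul_distrib]
    exact Finset.prod_congr rfl fun i _ => by rw [Pi.mul_apply, Units.val_mul, mul_zpow]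
  set m := (List.range P.rank).map fun k => decide (hchar P c (P.sim k) = 1) with hm
  have hsim : ∀ {c' : Fin P.rank → Fˣ}, (∀ k < P.rank, hchar P c' (P.sim k) = hchar P c (P.sim k)) →
      h.hHom c' = h.hHom c := by
    intro c' e
    refine CyclTorus.hHom_ext_char h fun r hr => ?_
    have e' : CyclTorus.simChar P c' = CyclTorus.simChar P c := funext fun k => Units.ext (by
      simp only [CyclTorus.simChar, CyclTorus.coe_prod_zpow]
      exact e k k.isLt)
    rw [CyclTorus.hchar_eq h c' hr, CyclTorus.hchar_eq h c hr, e']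
  have use_word : ∀ (j₀ : ℕ) (c₀ : Fin P.rank → Fˣ),
      (∀ r < P.nroots, hchar P c₀ r = if par P j₀ r then (1 : F) else -1) →
      ∀ l, WordOk P l → kap P j₀ l = m → ∃ g ∈ D.group F, h.hHom c = g * h.hHom c₀ * g⁻¹ := by
    intro j₀ c₀ h₀ l hl hk
    have hlr : WordOk P l.reverse := fun x hx => hl x (List.mem_reverse.1 hx)
    obtain ⟨c', hc', hch⟩ := conj_word h hlr c₀
    refine ⟨_, h.monomial_le_group (h.nW_mem _ hlr), ?_⟩
    rw [hc']
    refine (hsim fun k hk' => ?_).symm
    have hs := h.sim_lt hk'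
    have e1 := hch _ (h.wl_lt l hl _ hs)
    rw [h.wl_reverse l hl _ hs] at e1
    rw [e1, h₀ _ (h.wl_lt l hl _ hs)]
    have e2 := List.map_inj_left.1 hk k (List.mem_range.2 hk')
    rw [e2]
    rcases hpm _ hs with e3 | e3 <;> simp [e3, one_ne_neg_one h hq]
  simp only [ckCover, List.all_eq_true, Bool.or_eq_true, List.any_eq_true, List.mem_map, beq_iff_eq] at hcov
  have hlen : m.length = P.rank := by simp [hm]
  rcases hcov m (hlen ▸ mem_allPat m) with (hall | ⟨x, ⟨l, hl, rfl⟩, e⟩) | ⟨x, ⟨l, hl, rfl⟩, e⟩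
  · refine absurd ?_ hne
    rw [← map_one (h.hHom (F := F))]
    refine (hsim fun k hk => ?_).symm
    have := hall (decide (hchar P c (P.sim k) = 1)) (List.mem_map.2 ⟨k, List.mem_range.2 hk, rfl⟩)
    rw [of_decide_eq_true this]
    simp [hchar]
  · obtain ⟨g, hg, e'⟩ := use_word j c₁ h1 l (hO l hl) e
    exact ⟨g, hg, Or.inl e'⟩
  · obtain ⟨g, hg, e'⟩ := use_word j' c₂ h2 l (hO' l hl) e
    exact ⟨g, hg, Or.inr e'⟩

end Cfsg.Agent.Chev.InvolOdd
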