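/-
Words for the stabilisers and orbits of the parity functionals of `F₄` and `E₈`.
-/
import Mathlib.Data.List.Basic

set_option autoImplicit false
set_option maxRecDepth 20000

namespace Cfsg.Agent.Chev.InvolOdd

/-- Coset representatives. -/
def gF4a : List (List ℕ) :=
  [[],[0,1,2,1,0],[3,0,1,2,1,0],[2,3,0,1,2,1,0],[1,2,3,0,1,2,1,0],[2,1,2,3,0,1,2,1,0],[3,2,1,2,3,0,1,2,1,0],[0,1,2,3,1,2,0,1,2,3,0,1,2,1,0]]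

/-- Orbit words. -/
def oF4a : List (List ℕ) :=
  [[],[0],[0,1]]

/-- Coset representatives. -/
def gF4b : List (List ℕ) :=
  [[],[3,2,1,2,0,1,2,3,2,1,2,0,1,2,3]]

/-- Orbit words. -/
def oF4b : List (List ℕ) :=
  [[],[3],[3,2],[3,2,1],[3,2,1,0],[3,2,1,2],[3,2,1,0,2],[3,2,1,2,3],[3,2,1,0,2,1],[3,2,1,0,2,3],[3,2,1,0,2,1,2],[3,2,1,0,2,1,3]]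

/-- Coset representatives. -/
def gE8a : List (List ℕ) :=
  [[],[0,2,3,4,5,1,3,4,2,3,0,2,1,3,4,5,6,5,4,3,2,1,3,4,5,0,2,3,4,1,3,2,0],[7,0,2,3,4,5,1,3,4,2,3,0,2,1,3,4,5,6,5,4,3,2,1,3,4,5,0,2,3,4,1,3,2,0],[6,7,0,2,3,4,5,1,3,4,2,3,0,2,1,3,4,5,6,5,4,3,2,1,3,4,5,0,2,3,4,1,3,2,0],[5,6,7,0,2,3,4,5,1,3,4,2,3,0,2,1,3,4,5,6,5,4,3,2,1,3,4,5,0,2,3,4,1,3,2,0],[4,5,6,7,0,2,3,4,5,1,3,4,2,3,0,2,1,3,4,5,6,5,4,3,2,1,3,4,5,0,2,3,4,1,3,2,0],[3,4,5,6,7,0,2,3,4,5,1,3,4,2,3,0,2,1,3,4,5,6,5,4,3,2,1,3,4,5,0,2,3,4,1,3,2,0],[1,3,4,5,6,7,0,2,3,4,5,1,3,4,2,3,0,2,1,3,4,5,6,5,4,3,2,1,3,4,5,0,2,3,4,1,3,2,0],[2,3,4,5,6,7,0,2,3,4,5,1,3,4,2,3,0,2,1,3,4,5,6,5,4,3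,2,1,3,4,5,0,2,3,4,1,3,2,0],[2,1,3,4,5,6,7,0,2,3,4,5,1,3,4,2,3,0,2,1,3,4,5,6,5,4,3,2,1,3,4,5,0,2,3,4,1,3,2,0],[3,2,1,3,4,5,6,7,0,2,3,4,5,1,3,4,2,3,0,2,1,3,4,5,6,5,4,3,2,1,3,4,5,0,2,3,4,1,3,2,0],[4,3,2,1,3,4,5,6,7,0,2,3,4,5,1,3,4,2,3,0,2,1,3,4,5,6,5,4,3,2,1,3,4,5,0,2,3,4,1,3,2,0],[5,4,3,2,1,3,4,5,6,7,0,2,3,4,5,1,3,4,2,3,0,2,1,3,4,5,6,5,4,3,2,1,3,4,5,0,2,3,4,1,3,2,0],[6,5,4,3,2,1,3,4,5,6,7,0,2,3,4,5,1,3,4,2,3,0,2,1,3,4,5,6,5,4,3,2,1,3,4,5,0,2,3,4,1,3,2,0],[7,6,5,4,3,2,1,3,4,5,6,7,0,2,3,4,5,1,3,4,2,3,0,2,1,3,4,5,6,5,4,3,2,1,3,4,5,0,2,3,4,1,3,2,0],[0,2,3,4,5,1,3,4,2,3,0,2,1,3,4,5,6,7,5,4,3,2,1,3,4,5,6,0,2,3,4,5,1,3,4,2,3,0,2,1,3,4,5,6,7,0,2,3,4,5,1,3,4,2,3,0,2,1,3,4,5,6,5,4,3,2,1,3,4,5,0,2,3,4,1,3,2,0]]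

/-- Orbit words. -/
def oE8a : List (List ℕ) :=
  [[],[0],[0,2],[0,2,3],[0,2,3,1],[0,2,3,4],[0,2,3,1,4],[0,2,3,4,5],[0,2,3,1,4,3],[0,2,3,1,4,5],[0,2,3,4,5,6],[0,2,3,1,4,3,2],[0,2,3,1,4,3,5],[0,2,3,1,4,5,6],[0,2,3,4,5,6,7],[0,2,3,1,4,3,2,0],[0,2,3,1,4,3,2,5],[0,2,3,1,4,3,5,4],[0,2,3,1,4,3,5,6],[0,2,3,1,4,5,6,7],[0,2,3,1,4,3,2,0,5],[0,2,3,1,4,3,2,5,4],[0,2,3,1,4,3,2,5,6],[0,2,3,1,4,3,5,4,6],[0,2,3,1,4,3,5,6,7],[0,2,3,1,4,3,2,0,5,4],[0,2,3,1,4,3,2,0,5,6],[0,2,3,1,4,3,2,5,4,3],[0,2,3,1,4,3,2,5,4,6],[0,2,3,1,4,3,2,5,6,7],[0,2,3,1,4,3,5,4,6,5],[0,2,3,1,4,3,5,4,6,7],[0,2,3,1,4,3,2,0,5,4,3],[0,2,3,1,4,3,2,0,5,4,6],[0,2,3,1,4,3,2,0,5,6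,7],[0,2,3,1,4,3,2,5,4,3,1],[0,2,3,1,4,3,2,5,4,3,6],[0,2,3,1,4,3,2,5,4,6,5],[0,2,3,1,4,3,2,5,4,6,7],[0,2,3,1,4,3,5,4,6,5,7],[0,2,3,1,4,3,2,0,5,4,3,1],[0,2,3,1,4,3,2,0,5,4,3,2],[0,2,3,1,4,3,2,0,5,4,3,6],[0,2,3,1,4,3,2,0,5,4,6,5],[0,2,3,1,4,3,2,0,5,4,6,7],[0,2,3,1,4,3,2,5,4,3,1,6],[0,2,3,1,4,3,2,5,4,3,6,5],[0,2,3,1,4,3,2,5,4,3,6,7],[0,2,3,1,4,3,2,5,4,6,5,7],[0,2,3,1,4,3,5,4,6,5,7,6],[0,2,3,1,4,3,2,0,5,4,3,1,2],[0,2,3,1,4,3,2,0,5,4,3,1,6],[0,2,3,1,4,3,2,0,5,4,3,2,6],[0,2,3,1,4,3,2,0,5,4,3,6,5],[0,2,3,1,4,3,2,0,5,4,3,6,7],[0,2,3,1,4,3,2,0,5,4,6,5,7],[0,2,3,1,4,3,2,5,4,3,1,6,5],[0,2,3,1,4,3,2,5,4,3,1,6,7],[0,2,3,1,4,3,2,5,4,3,6,5,4],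[0,2,3,1,4,3,2,5,4,3,6,5,7],[0,2,3,1,4,3,2,5,4,6,5,7,6],[0,2,3,1,4,3,2,0,5,4,3,1,2,3],[0,2,3,1,4,3,2,0,5,4,3,1,2,6],[0,2,3,1,4,3,2,0,5,4,3,1,6,5],[0,2,3,1,4,3,2,0,5,4,3,1,6,7],[0,2,3,1,4,3,2,0,5,4,3,2,6,5],[0,2,3,1,4,3,2,0,5,4,3,2,6,7],[0,2,3,1,4,3,2,0,5,4,3,6,5,4],[0,2,3,1,4,3,2,0,5,4,3,6,5,7],[0,2,3,1,4,3,2,0,5,4,6,5,7,6],[0,2,3,1,4,3,2,5,4,3,1,6,5,4],[0,2,3,1,4,3,2,5,4,3,1,6,5,7],[0,2,3,1,4,3,2,5,4,3,6,5,4,7],[0,2,3,1,4,3,2,5,4,3,6,5,7,6],[0,2,3,1,4,3,2,0,5,4,3,1,2,3,4],[0,2,3,1,4,3,2,0,5,4,3,1,2,3,6],[0,2,3,1,4,3,2,0,5,4,3,1,2,6,5],[0,2,3,1,4,3,2,0,5,4,3,1,2,6,7],[0,2,3,1,4,3,2,0,5,4,3,1,6,5,4],[0,2,3,1,4,3,2,0,5,4,3,1,6,5,7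],[0,2,3,1,4,3,2,0,5,4,3,2,6,5,4],[0,2,3,1,4,3,2,0,5,4,3,2,6,5,7],[0,2,3,1,4,3,2,0,5,4,3,6,5,4,7],[0,2,3,1,4,3,2,0,5,4,3,6,5,7,6],[0,2,3,1,4,3,2,5,4,3,1,6,5,4,3],[0,2,3,1,4,3,2,5,4,3,1,6,5,4,7],[0,2,3,1,4,3,2,5,4,3,1,6,5,7,6],[0,2,3,1,4,3,2,5,4,3,6,5,4,7,6],[0,2,3,1,4,3,2,0,5,4,3,1,2,3,4,5],[0,2,3,1,4,3,2,0,5,4,3,1,2,3,4,6],[0,2,3,1,4,3,2,0,5,4,3,1,2,3,6,5],[0,2,3,1,4,3,2,0,5,4,3,1,2,3,6,7],[0,2,3,1,4,3,2,0,5,4,3,1,2,6,5,4],[0,2,3,1,4,3,2,0,5,4,3,1,2,6,5,7],[0,2,3,1,4,3,2,0,5,4,3,1,6,5,4,3],[0,2,3,1,4,3,2,0,5,4,3,1,6,5,4,7],[0,2,3,1,4,3,2,0,5,4,3,1,6,5,7,6],[0,2,3,1,4,3,2,0,5,4,3,2,6,5,4,3],[0,2,3,1,4,3,2,0,5,4,3,2,6,5,4,7],[0,2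,3,1,4,3,2,0,5,4,3,2,6,5,7,6],[0,2,3,1,4,3,2,0,5,4,3,6,5,4,7,6],[0,2,3,1,4,3,2,5,4,3,1,6,5,4,3,2],[0,2,3,1,4,3,2,5,4,3,1,6,5,4,3,7],[0,2,3,1,4,3,2,5,4,3,1,6,5,4,7,6],[0,2,3,1,4,3,2,5,4,3,6,5,4,7,6,5],[0,2,3,1,4,3,2,0,5,4,3,1,2,3,4,6,7],[0,2,3,1,4,3,2,0,5,4,3,1,2,3,6,5,7],[0,2,3,1,4,3,2,0,5,4,3,1,2,6,5,4,7],[0,2,3,1,4,3,2,0,5,4,3,1,2,6,5,7,6],[0,2,3,1,4,3,2,0,5,4,3,1,6,5,4,3,7],[0,2,3,1,4,3,2,0,5,4,3,1,6,5,4,7,6],[0,2,3,1,4,3,2,0,5,4,3,2,6,5,4,3,7],[0,2,3,1,4,3,2,0,5,4,3,2,6,5,4,7,6],[0,2,3,1,4,3,2,0,5,4,3,6,5,4,7,6,5],[0,2,3,1,4,3,2,5,4,3,1,6,5,4,3,2,7],[0,2,3,1,4,3,2,5,4,3,1,6,5,4,3,7,6],[0,2,3,1,4,3,2,5,4,3,1,6,5,4,7,6,5],[0,2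,3,1,4,3,2,0,5,4,3,1,2,3,6,5,7,6],[0,2,3,1,4,3,2,0,5,4,3,1,2,6,5,4,7,6],[0,2,3,1,4,3,2,0,5,4,3,1,6,5,4,3,7,6],[0,2,3,1,4,3,2,0,5,4,3,1,6,5,4,7,6,5],[0,2,3,1,4,3,2,0,5,4,3,2,6,5,4,3,7,6],[0,2,3,1,4,3,2,0,5,4,3,2,6,5,4,7,6,5],[0,2,3,1,4,3,2,5,4,3,1,6,5,4,3,2,7,6],[0,2,3,1,4,3,2,5,4,3,1,6,5,4,3,7,6,5],[0,2,3,1,4,3,2,0,5,4,3,1,2,6,5,4,7,6,5],[0,2,3,1,4,3,2,0,5,4,3,1,6,5,4,3,7,6,5],[0,2,3,1,4,3,2,0,5,4,3,2,6,5,4,3,7,6,5],[0,2,3,1,4,3,2,5,4,3,1,6,5,4,3,2,7,6,5],[0,2,3,1,4,3,2,5,4,3,1,6,5,4,3,7,6,5,4],[0,2,3,1,4,3,2,0,5,4,3,1,6,5,4,3,7,6,5,4],[0,2,3,1,4,3,2,0,5,4,3,2,6,5,4,3,7,6,5,4],[0,2,3,1,4,3,2,5,4,3,1,6,5,4,3,2,7,6,5,4],[0,2,3,1,4,3,2,5,4,3,1,6,5,4,3,2,7,6,5,4,3],[0,2,3,1,4,3,2,5,4,3,1,6,5,4,3,2,7,6,5,4,3,1]]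

/-- Coset representatives. -/
def gE8b : List (List ℕ) :=
  [[],[7,6,5,4,3,2,1,3,4,5,6,0,2,3,4,5,1,3,4,2,3,0,2,1,3,4,5,6,7,6,5,4,3,2,1,3,4,5,6,0,2,3,4,5,1,3,4,2,3,0,2,1,3,4,5,6,7]]

/-- Orbit words. -/
def oE8b : List (List ℕ) :=
  [[],[7],[7,6],[7,6,5],[7,6,5,4],[7,6,5,4,3],[7,6,5,4,3,1],[7,6,5,4,3,2],[7,6,5,4,3,1,2],[7,6,5,4,3,2,0],[7,6,5,4,3,1,2,0],[7,6,5,4,3,1,2,3],[7,6,5,4,3,1,2,0,3],[7,6,5,4,3,1,2,3,4],[7,6,5,4,3,1,2,0,3,2],[7,6,5,4,3,1,2,0,3,4],[7,6,5,4,3,1,2,3,4,5],[7,6,5,4,3,1,2,0,3,2,4],[7,6,5,4,3,1,2,0,3,4,5],[7,6,5,4,3,1,2,3,4,5,6],[7,6,5,4,3,1,2,0,3,2,4,3],[7,6,5,4,3,1,2,0,3,2,4,5],[7,6,5,4,3,1,2,0,3,4,5,6],[7,6,5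,4,3,1,2,3,4,5,6,7],[7,6,5,4,3,1,2,0,3,2,4,3,1],[7,6,5,4,3,1,2,0,3,2,4,3,5],[7,6,5,4,3,1,2,0,3,2,4,5,6],[7,6,5,4,3,1,2,0,3,4,5,6,7],[7,6,5,4,3,1,2,0,3,2,4,3,1,5],[7,6,5,4,3,1,2,0,3,2,4,3,5,4],[7,6,5,4,3,1,2,0,3,2,4,3,5,6],[7,6,5,4,3,1,2,0,3,2,4,5,6,7],[7,6,5,4,3,1,2,0,3,2,4,3,1,5,4],[7,6,5,4,3,1,2,0,3,2,4,3,1,5,6],[7,6,5,4,3,1,2,0,3,2,4,3,5,4,6],[7,6,5,4,3,1,2,0,3,2,4,3,5,6,7],[7,6,5,4,3,1,2,0,3,2,4,3,1,5,4,3],[7,6,5,4,3,1,2,0,3,2,4,3,1,5,4,6],[7,6,5,4,3,1,2,0,3,2,4,3,1,5,6,7],[7,6,5,4,3,1,2,0,3,2,4,3,5,4,6,5],[7,6,5,4,3,1,2,0,3,2,4,3,5,4,6,7],[7,6,5,4,3,1,2,0,3,2,4,3,1,5,4,3,2],[7,6,5,4,3,1,2,0,3,2,4,3,1,5,4,3,6],[7,6,5,4,3,1,2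,0,3,2,4,3,1,5,4,6,5],[7,6,5,4,3,1,2,0,3,2,4,3,1,5,4,6,7],[7,6,5,4,3,1,2,0,3,2,4,3,5,4,6,5,7],[7,6,5,4,3,1,2,0,3,2,4,3,1,5,4,3,2,0],[7,6,5,4,3,1,2,0,3,2,4,3,1,5,4,3,2,6],[7,6,5,4,3,1,2,0,3,2,4,3,1,5,4,3,6,5],[7,6,5,4,3,1,2,0,3,2,4,3,1,5,4,3,6,7],[7,6,5,4,3,1,2,0,3,2,4,3,1,5,4,6,5,7],[7,6,5,4,3,1,2,0,3,2,4,3,5,4,6,5,7,6],[7,6,5,4,3,1,2,0,3,2,4,3,1,5,4,3,2,0,6],[7,6,5,4,3,1,2,0,3,2,4,3,1,5,4,3,2,6,5],[7,6,5,4,3,1,2,0,3,2,4,3,1,5,4,3,2,6,7],[7,6,5,4,3,1,2,0,3,2,4,3,1,5,4,3,6,5,4],[7,6,5,4,3,1,2,0,3,2,4,3,1,5,4,3,6,5,7],[7,6,5,4,3,1,2,0,3,2,4,3,1,5,4,6,5,7,6],[7,6,5,4,3,1,2,0,3,2,4,3,1,5,4,3,2,0,6,5],[7,6,5,4,3,1,2,0,3,2,4,3,1,5,4,3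,2,0,6,7],[7,6,5,4,3,1,2,0,3,2,4,3,1,5,4,3,2,6,5,4],[7,6,5,4,3,1,2,0,3,2,4,3,1,5,4,3,2,6,5,7],[7,6,5,4,3,1,2,0,3,2,4,3,1,5,4,3,6,5,4,7],[7,6,5,4,3,1,2,0,3,2,4,3,1,5,4,3,6,5,7,6],[7,6,5,4,3,1,2,0,3,2,4,3,1,5,4,3,2,0,6,5,4],[7,6,5,4,3,1,2,0,3,2,4,3,1,5,4,3,2,0,6,5,7],[7,6,5,4,3,1,2,0,3,2,4,3,1,5,4,3,2,6,5,4,3],[7,6,5,4,3,1,2,0,3,2,4,3,1,5,4,3,2,6,5,4,7],[7,6,5,4,3,1,2,0,3,2,4,3,1,5,4,3,2,6,5,7,6],[7,6,5,4,3,1,2,0,3,2,4,3,1,5,4,3,6,5,4,7,6],[7,6,5,4,3,1,2,0,3,2,4,3,1,5,4,3,2,0,6,5,4,3],[7,6,5,4,3,1,2,0,3,2,4,3,1,5,4,3,2,0,6,5,4,7],[7,6,5,4,3,1,2,0,3,2,4,3,1,5,4,3,2,0,6,5,7,6],[7,6,5,4,3,1,2,0,3,2,4,3,1,5,4,3,2,6,5,4,3,1],[7,6,5,4,3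,1,2,0,3,2,4,3,1,5,4,3,2,6,5,4,3,7],[7,6,5,4,3,1,2,0,3,2,4,3,1,5,4,3,2,6,5,4,7,6],[7,6,5,4,3,1,2,0,3,2,4,3,1,5,4,3,6,5,4,7,6,5],[7,6,5,4,3,1,2,0,3,2,4,3,1,5,4,3,2,0,6,5,4,3,1],[7,6,5,4,3,1,2,0,3,2,4,3,1,5,4,3,2,0,6,5,4,3,2],[7,6,5,4,3,1,2,0,3,2,4,3,1,5,4,3,2,0,6,5,4,3,7],[7,6,5,4,3,1,2,0,3,2,4,3,1,5,4,3,2,0,6,5,4,7,6],[7,6,5,4,3,1,2,0,3,2,4,3,1,5,4,3,2,6,5,4,3,1,7],[7,6,5,4,3,1,2,0,3,2,4,3,1,5,4,3,2,6,5,4,3,7,6],[7,6,5,4,3,1,2,0,3,2,4,3,1,5,4,3,2,6,5,4,7,6,5],[7,6,5,4,3,1,2,0,3,2,4,3,1,5,4,3,2,0,6,5,4,3,1,2],[7,6,5,4,3,1,2,0,3,2,4,3,1,5,4,3,2,0,6,5,4,3,1,7],[7,6,5,4,3,1,2,0,3,2,4,3,1,5,4,3,2,0,6,5,4,3,2,7],[7,6,5,4,3,1,2,0,3,2,4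,3,1,5,4,3,2,0,6,5,4,3,7,6],[7,6,5,4,3,1,2,0,3,2,4,3,1,5,4,3,2,0,6,5,4,7,6,5],[7,6,5,4,3,1,2,0,3,2,4,3,1,5,4,3,2,6,5,4,3,1,7,6],[7,6,5,4,3,1,2,0,3,2,4,3,1,5,4,3,2,6,5,4,3,7,6,5],[7,6,5,4,3,1,2,0,3,2,4,3,1,5,4,3,2,0,6,5,4,3,1,2,3],[7,6,5,4,3,1,2,0,3,2,4,3,1,5,4,3,2,0,6,5,4,3,1,2,7],[7,6,5,4,3,1,2,0,3,2,4,3,1,5,4,3,2,0,6,5,4,3,1,7,6],[7,6,5,4,3,1,2,0,3,2,4,3,1,5,4,3,2,0,6,5,4,3,2,7,6],[7,6,5,4,3,1,2,0,3,2,4,3,1,5,4,3,2,0,6,5,4,3,7,6,5],[7,6,5,4,3,1,2,0,3,2,4,3,1,5,4,3,2,6,5,4,3,1,7,6,5],[7,6,5,4,3,1,2,0,3,2,4,3,1,5,4,3,2,6,5,4,3,7,6,5,4],[7,6,5,4,3,1,2,0,3,2,4,3,1,5,4,3,2,0,6,5,4,3,1,2,3,4],[7,6,5,4,3,1,2,0,3,2,4,3,1,5,4,3,2,0,6,5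,4,3,1,2,3,7],[7,6,5,4,3,1,2,0,3,2,4,3,1,5,4,3,2,0,6,5,4,3,1,2,7,6],[7,6,5,4,3,1,2,0,3,2,4,3,1,5,4,3,2,0,6,5,4,3,1,7,6,5],[7,6,5,4,3,1,2,0,3,2,4,3,1,5,4,3,2,0,6,5,4,3,2,7,6,5],[7,6,5,4,3,1,2,0,3,2,4,3,1,5,4,3,2,0,6,5,4,3,7,6,5,4],[7,6,5,4,3,1,2,0,3,2,4,3,1,5,4,3,2,6,5,4,3,1,7,6,5,4],[7,6,5,4,3,1,2,0,3,2,4,3,1,5,4,3,2,0,6,5,4,3,1,2,3,4,5],[7,6,5,4,3,1,2,0,3,2,4,3,1,5,4,3,2,0,6,5,4,3,1,2,3,4,7],[7,6,5,4,3,1,2,0,3,2,4,3,1,5,4,3,2,0,6,5,4,3,1,2,3,7,6],[7,6,5,4,3,1,2,0,3,2,4,3,1,5,4,3,2,0,6,5,4,3,1,2,7,6,5],[7,6,5,4,3,1,2,0,3,2,4,3,1,5,4,3,2,0,6,5,4,3,1,7,6,5,4],[7,6,5,4,3,1,2,0,3,2,4,3,1,5,4,3,2,0,6,5,4,3,2,7,6,5,4],[7,6,5,4,3,1,2,0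,3,2,4,3,1,5,4,3,2,6,5,4,3,1,7,6,5,4,3],[7,6,5,4,3,1,2,0,3,2,4,3,1,5,4,3,2,0,6,5,4,3,1,2,3,4,5,6],[7,6,5,4,3,1,2,0,3,2,4,3,1,5,4,3,2,0,6,5,4,3,1,2,3,4,5,7],[7,6,5,4,3,1,2,0,3,2,4,3,1,5,4,3,2,0,6,5,4,3,1,2,3,4,7,6],[7,6,5,4,3,1,2,0,3,2,4,3,1,5,4,3,2,0,6,5,4,3,1,2,3,7,6,5],[7,6,5,4,3,1,2,0,3,2,4,3,1,5,4,3,2,0,6,5,4,3,1,2,7,6,5,4],[7,6,5,4,3,1,2,0,3,2,4,3,1,5,4,3,2,0,6,5,4,3,1,7,6,5,4,3],[7,6,5,4,3,1,2,0,3,2,4,3,1,5,4,3,2,0,6,5,4,3,2,7,6,5,4,3],[7,6,5,4,3,1,2,0,3,2,4,3,1,5,4,3,2,6,5,4,3,1,7,6,5,4,3,2]]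

end Cfsg.Agent.Chev.InvolOdd
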