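/-
Involutions of Chevalley groups over fields of odd order are conjugate into the split torus.
-/
import Cfsg.Agent.Lib.Chev.SpecialTools
import Cfsg.Agent.Lib.Chev.CyclTorus.Main
import Cfsg.Agent.Lib.Chev.HomSylow.Main
import Cfsg.Agent.Lib.Chev.SL2
import Cfsg.Agent.Lib.Chev.Bruhat
import Mathlib.FieldTheory.Finite.Basic

set_option autoImplicit false
set_option maxRecDepth 20000
set_option maxHeartbeats 1600000

namespace Cfsg.Agent.Chev.InvolOdd

open Cfsg.Lie Cfsg.Agent.Chev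
open scoped MatrixGroups

/-- A fundamental root orthogonal to another is fixed by its reflection. -/
def ckOrthSim (P : Pk) : Bool :=
  (List.range P.rank).all fun i => (List.range P.rank).all fun k => Nat.beq i k ||
    (!(decide (P.A i (P.sim k) = 0)) || (Nat.beq (P.w i (P.sim k)) (P.sim k) &&
      decide (P.eta i (P.sim k) = 1))) && ((decide (P.A i (P.sim k) % 2 ≠ 0) || decide (P.A k (P.sim i) % 2 ≠ 0)) ||
        decide (P.A i (P.sim k) = 0))

/-- Orthogonal sets of fundamental roots are detected by another fundamental root. -/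
def ckOddRoot (P : Pk) : Bool :=
  (List.range P.rank).sublists.all fun M => M.isEmpty ||
    !(M.all fun i => M.all fun j => Nat.beq i j || decide (P.A i (P.sim j) = 0)) ||
    (List.range P.rank).any fun s => decide ((nsg P (M ++ M) (P.sim s)).2 = -1) &&
      decide ((M.map fun i => P.rv (wl P M (P.sim s)) i).sum % 2 = 1) && !(M.any fun i => Nat.beq i s)

variable {D : ChevalleyDatum} {P : Pk} (h : Ok D P) {F : Type*} [Field F]

omit h in
/-- The antidiagonal twist of matrices. -/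
def tauM (a : F) (A : Matrix (Fin 2) (Fin 2) F) : Matrix (Fin 2) (Fin 2) F :=
  !![A 1 1, A 1 0 / a; a * A 0 1, A 0 0]

omit h in
theorem tauM_mul (a : F) (ha : a ≠ 0) (A B : Matrix (Fin 2) (Fin 2) F) :
    tauM a (A * B) = tauM a A * tauM a B := by
  ext i j
  fin_cases i <;> fin_cases j <;> simp [tauM, Matrix.mul_apply, Fin.sum_univ_two] <;> field_simp <;> ring

omit h in
/-- The antidiagonal twist of `SL₂`. -/
def tau (a : F) (ha : a ≠ 0) : SL(2, F) →* SL(2, F) where
  toFun M := ⟨tauM a M.1, by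
    have e : M.1.det = 1 := M.2
    rw [Matrix.det_fin_two] at e
    rw [tauM, Matrix.det_fin_two_of]
    field_simp
    linear_combination e⟩
  map_one' := by
    apply Subtype.ext
    show tauM a (1 : Matrix (Fin 2) (Fin 2) F) = 1
    simp [tauM, Matrix.one_fin_two]
  map_mul' M N := Subtype.ext (tauM_mul a ha M.1 N.1)

omit h in
theorem coe_tau (a : F) (ha : a ≠ 0) (M : SL(2, F)) : (tau a ha M).1 = tauM a M.1 := rfl

omit h in
theorem tau_sU (a : F) (ha : a ≠ 0) (t : F) : tau a ha (sU t) = sL (a * t) := by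
  apply Subtype.ext
  rw [coe_tau]
  simp [tauM, coe_sU, coe_sL]

omit h in
theorem tau_sL (a : F) (ha : a ≠ 0) (t : F) : tau a ha (sL t) = sU (t / a) := by
  apply Subtype.ext
  rw [coe_tau]
  simp [tauM, coe_sU, coe_sL]

omit h in
/-- The elements used to change the torus. -/
theorem tau_square (c : F) (hc : c ≠ 0) (h2 : (2 : F) ≠ 0) :
    ∃ g : SL(2, F), g * (tau (c * c) (mul_ne_zero hc hc) g)⁻¹ = sN c⁻¹ (inv_ne_zero hc) := by
  refine ⟨⟨!![c, 1; -(1 / 2), 1 / (2 * c)], ?_⟩, ?_⟩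
  · rw [Matrix.det_fin_two_of]; field_simp; ring
  · refine mul_inv_eq_iff_eq_mul.2 (Subtype.ext ?_)
    show !![c, 1; -(1 / 2), 1 / (2 * c)] = (sN c⁻¹ (inv_ne_zero hc)).1 * tauM (c * c) !![c, 1; -(1 / 2), 1 / (2 * c)]
    ext i j
    fin_cases i <;> fin_cases j <;>
      simp [tauM, coe_sN, Matrix.SpecialLinearGroup.coe_mul, Matrix.mul_apply, Fin.sum_univ_two] <;> field_simp

omit h in
theorem tau_flip [Fintype F] (hq : Fintype.card F % 2 = 1) (a : F) (ha : a ≠ 0) :
    ∃ g : SL(2, F), g * (tau a ha g)⁻¹ = sN a ha * sN (-1) (neg_ne_zero.2 one_ne_zero) := by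
  obtain ⟨p, r, e⟩ := FiniteField.exists_root_sum_quadratic
    (f := Polynomial.X ^ 2) (g := Polynomial.C (-a) * Polynomial.X ^ 2 + Polynomial.C (-a))
    (Polynomial.degree_X_pow 2) (by
      have h2 : (Polynomial.C (-a) * Polynomial.X ^ 2).degree = (2 : WithBot ℕ) :=
        Polynomial.degree_C_mul_X_pow _ (neg_ne_zero.2 ha)
      rw [Polynomial.degree_add_C (by rw [h2]; decide), h2]) hq
  simp only [Polynomial.eval_add, Polynomial.eval_mul, Polynomial.eval_pow, Polynomial.eval_C, Polynomial.eval_X] at e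
  refine ⟨⟨!![p, r; r, p / a], ?_⟩, ?_⟩
  · rw [Matrix.det_fin_two_of]; field_simp; linear_combination e
  · refine mul_inv_eq_iff_eq_mul.2 (Subtype.ext ?_)
    show !![p, r; r, p / a] = (sN a ha).1 * (sN (-1) (neg_ne_zero.2 one_ne_zero)).1 * tauM a !![p, r; r, p / a]
    ext i j
    fin_cases i <;> fin_cases j <;>
      simp [tauM, coe_sN, Matrix.SpecialLinearGroup.coe_mul, Matrix.mul_apply, Fin.sum_univ_two] <;> field_simp

omit h in
theorem prod_zpow_sum {G ι : Type*} [CommGroup G] (a : G) (f : ι → ℤ) (S : Finset ι) :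
    ∏ x ∈ S, a ^ f x = a ^ ∑ x ∈ S, f x := by
  classical
  induction S using Finset.induction_on with
  | empty => simp
  | insert x S hx ih => rw [Finset.prod_insert hx, Finset.sum_insert hx, ih, zpow_add]

include h

theorem invJ_rev {l : List ℕ} (hl : WordOk P l) :
    invJ P (List.range P.rank) (act P l.reverse) = invJ P (List.range P.rank) (act P l) := by
  classical
  have main : ∀ m : List ℕ, WordOk P m →
      invJ P (List.range P.rank) (act P m) ≤ invJ P (List.range P.rank) (act P m.reverse) := by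
    intro m hm
    have hmr : WordOk P m.reverse := fun x hx => hm x (List.mem_reverse.1 hx)
    rw [Ok.invJ_def, Ok.invJ_def]
    refine Finset.card_le_card_of_injOn (fun r => ⟨P.ng (act P m r), Ok.ng_lt (act P m r).isLt⟩) (fun r hr => ?_)
      (fun r _ r' _ e => ?_)
    · obtain ⟨-, -, hp, hn⟩ := Finset.mem_filter.1 hr
      refine Finset.mem_coe.2 (Finset.mem_filter.2 ⟨Finset.mem_univ _, inJ_iff.2 fun k hk hkn => absurd (List.mem_range.2 hk) hkn,
        (h.ng_pos_iff (act P m r).isLt).2 hn, ?_⟩)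
      rw [h.act_val hmr]
      simp only [h.act_val hm]
      rw [h.wl_ng _ hmr _ (h.wl_lt m hm _ r.isLt), h.wl_reverse m hm _ r.isLt, ← Bool.not_eq_true,
        h.ng_pos_iff r.isLt, hp]
      simp
    · have e' : P.ng (act P m r) = P.ng (act P m r') := congrArg Fin.val e
      have e2 := congrArg P.ng e'
      rw [Ok.ng_ng (act P m r).isLt, Ok.ng_ng (act P m r').isLt, h.act_val hm, h.act_val hm] at e2
      have e3 := congrArg (wl P m.reverse) e2
      rw [h.wl_reverse m hm _ r.isLt, h.wl_reverse m hm _ r'.isLt] at e3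
      exact Fin.ext e3
  refine le_antisymm ?_ (main l hl)
  have := main l.reverse fun x hx => hl x (List.mem_reverse.1 hx)
  rwa [List.reverse_reverse] at this

theorem nn_mem {l : List ℕ} (hl : WordOk P l) {d : GL D.Idx F} (hd : d ∈ D.diagonalSubgroup F)
    (hy : h.nW l * d * (h.nW l * d) = 1) : h.nW (F := F) (l ++ l) ∈ D.diagonalSubgroup F := by
  set n := h.nW (F := F) l
  have hn := Subgroup.mem_normalizer_iff.1 (h.nW_normalizer (F := F) l hl)
  have e : n * n = n * d⁻¹ * n⁻¹ * d⁻¹ := by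
    have h1 : n * d * n = d⁻¹ := eq_inv_of_mul_eq_one_left (by rw [← hy]; group)
    rw [show n * n = n * d⁻¹ * n⁻¹ * (n * d * n) by group, h1]
  rw [h.nW_append, e]
  exact mul_mem ((hn d⁻¹).1 (inv_mem hd)) (inv_mem hd)

theorem wl_invol {l : List ℕ} (hl : WordOk P l) {d : GL D.Idx F} (hd : d ∈ D.diagonalSubgroup F)
    (hy : h.nW l * d * (h.nW l * d) = 1) {r : ℕ} (hr : r < P.nroots) : wl P l (wl P l r) = r := by
  have h1 := h.wl_eq_of_mem (F := F) (l := []) (l' := l ++ l) (fun _ hx => absurd hx List.not_mem_nil)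
    (wordOk_append hl hl) (by rw [h.nW_nil, inv_one, one_mul]; exact nn_mem h hl hd hy) hr
  rw [wl_append] at h1
  exact h1.symm

/-- The action on the root group of a fundamental root and its negative gives the twist of `SL₂`. -/
theorem conj_sl2 {i : ℕ} {φ : SL(2, F) →* GL D.Idx F} (hU : ∀ t, φ (sU t) = h.xG (P.sim i) t)
    (hL : ∀ t, φ (sL t) = h.xG (P.ng (P.sim i)) t) {y : GL D.Idx F} (hy : y * y = 1) {e : F} (he : e ≠ 0)
    (hx : ∀ t, y * h.xG (P.sim i) t * y⁻¹ = h.xG (P.ng (P.sim i)) (e * t)) (g : SL(2, F)) :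
    φ g * y * (φ g)⁻¹ = φ (g * (tau e he g)⁻¹) * y := by
  have hyi : y⁻¹ = y := inv_eq_of_mul_eq_one_right hy
  have hu : ∀ t, φ (tau e he (sU t)) = y * φ (sU t) * y⁻¹ := fun t => by rw [tau_sU, hL, hU, hx]
  have hl : ∀ t, φ (tau e he (sL t)) = y * φ (sL t) * y⁻¹ := fun t => by
    have h1 := hx (t / e)
    rw [mul_div_cancel₀ _ he] at h1
    rw [tau_sL, hU, hL, ← h1, hyi, show y * (y * h.xG (P.sim i) (t / e) * y) * y =
      (y * y) * h.xG (P.sim i) (t / e) * (y * y) by group, hy, one_mul, mul_one]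
  have key : φ (tau e he g) = y * φ g * y⁻¹ := by
    induction g using sl2_induction with
    | one => simp
    | hu t g ih => simp only [map_mul, hu, ih]; group
    | hw g ih =>
      simp only [sW_eq, map_mul, hu, hl, ih]
      group
  rw [map_mul, map_inv, key]
  group

theorem diag_mul_word {l : List ℕ} (hl : WordOk P l) {a d : GL D.Idx F} (ha : a ∈ D.diagonalSubgroup F)
    (hd : d ∈ D.diagonalSubgroup F) :
    ∃ d' ∈ D.diagonalSubgroup F, a * (h.nW l * d) = h.nW l * d' := by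
  refine ⟨(h.nW l)⁻¹ * a * h.nW l * d, mul_mem ?_ hd, by group⟩
  refine (Subgroup.mem_normalizer_iff.1 (h.nW_normalizer (F := F) l hl) _).2 ?_
  simpa [mul_assoc] using ha

variable [Fintype F]

theorem ne_two (hq : Fintype.card F % 2 = 1) : ringChar F ≠ 2 := fun e => by
  have := FiniteField.even_card_iff_char_two.1 e
  omega

/-- A square exponent lowers the word. -/
theorem step_square (hC : P.ckComm = true) (hR : P.ckRefl = true) (hq : Fintype.card F % 2 = 1) {l : List ℕ}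
    (hl : WordOk P l) {d : GL D.Idx F} (hd : d ∈ D.diagonalSubgroup F)
    (hy : h.nW l * d * (h.nW l * d) = 1) {i : ℕ} (hi : i < P.rank)
    (hwi : wl P l (P.sim i) = P.ng (P.sim i)) {e : F} (he : e ≠ 0)
    (hx : ∀ t, h.nW l * d * h.xG (P.sim i) t * (h.nW l * d)⁻¹ = h.xG (P.ng (P.sim i)) (e * t))
    (hsq : IsSquare e) :
    ∃ g ∈ D.group F, ∃ l', WordOk P l' ∧ invJ P (List.range P.rank) (act P l') < invJ P (List.range P.rank) (act P l) ∧
      ∃ d' ∈ D.diagonalSubgroup F, g * (h.nW l * d) * g⁻¹ = h.nW l' * d' := by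
  obtain ⟨c, rfl⟩ := hsq
  have hc : c ≠ 0 := left_ne_zero_of_mul he
  obtain ⟨φ, hφ, hU, hL⟩ := h.exists_sl2 (F := F) hR (h.sim_lt hi)
  obtain ⟨g, hg⟩ := tau_square c hc (Ring.two_ne_zero (ne_two h hq))
  have hgG : φ g ∈ D.group F := by
    have h2 : φ.range ≤ D.group F := by
      rw [hφ]
      refine sup_le ?_ ?_ <;> intro x hx <;> rw [← SetLike.mem_coe, h.rootSubgroup_eq] at hx <;>
        obtain ⟨t, rfl⟩ := hx <;> exact h.mem_group_of_xG _ _
    exact h2 ⟨g, rfl⟩
  have key := conj_sl2 h hU hL hy he hx g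
  rw [hg] at key
  have hN : φ (sN c⁻¹ (inv_ne_zero hc)) = h.nt (P.sim i) c⁻¹ := by
    have e1 : (sN c⁻¹ (inv_ne_zero hc) : SL(2, F)) = sU c⁻¹ * sL (-(c⁻¹)⁻¹) * sU c⁻¹ := by
      apply Subtype.ext
      ext a b
      fin_cases a <;> fin_cases b <;>
        simp [coe_sN, coe_sU, coe_sL, Matrix.SpecialLinearGroup.coe_mul, hc]
    rw [e1, map_mul, map_mul, hU, hL]
    rfl
  have hil : WordOk P ([i] ++ l) := wordOk_append (by simpa [WordOk] using hi) hl
  have hw1 : h.nW (F := F) ([i] ++ l) = h.nG i * h.nW l := by rw [h.nW_append]; simp [Ok.nW]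
  obtain ⟨d', hd', ed⟩ := diag_mul_word h hil (h.ht_mem (F := F) (h.sim_lt hi) (inv_ne_zero hc)) hd
  refine ⟨φ g, hgG, [i] ++ l, hil, ?_, d', hd', ?_⟩
  · have hlr : WordOk P l.reverse := fun x hx => hl x (List.mem_reverse.1 hx)
    rw [← invJ_rev h hil, List.reverse_append, show ([i] : List ℕ).reverse = [i] from rfl]
    refine lt_of_lt_of_le (h.invJ_lt hlr hi (List.mem_range.2 hi) ?_) (le_of_eq (invJ_rev h hl))
    have h1 : wl P l.reverse (P.sim i) = P.ng (P.sim i) := by
      have h2 := wl_invol h hl hd hy (h.sim_lt hi)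
      conv_lhs => rw [← h2]
      rw [h.wl_reverse l hl _ (h.wl_lt l hl _ (h.sim_lt hi)), hwi]
    rw [h1, ← Bool.not_eq_true, h.ng_pos_iff (h.sim_lt hi), h.sim_pos hi]
    simp
  · rw [key, ← ed, hN, h.nt_eq_ht_mul, hw1]
    rw [show h.nG i = h.nt (P.sim i) (1 : F) from rfl]
    group

/-- A nonsquare exponent changes the other exponents. -/
theorem step_flip (hR : P.ckRefl = true) (hq : Fintype.card F % 2 = 1) {l : List ℕ}
    (hl : WordOk P l) {d : GL D.Idx F} (hd : d ∈ D.diagonalSubgroup F)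
    (hy : h.nW l * d * (h.nW l * d) = 1) {i : ℕ} (hi : i < P.rank) {e : F} (he : e ≠ 0)
    (hx : ∀ t, h.nW l * d * h.xG (P.sim i) t * (h.nW l * d)⁻¹ = h.xG (P.ng (P.sim i)) (e * t)) :
    ∃ g ∈ D.group F, ∃ d' ∈ D.diagonalSubgroup F, g * (h.nW l * d) * g⁻¹ = h.nW l * d' ∧
      ∀ j < P.rank, ∀ u : F, (∀ t, h.nW l * d * h.xG (P.sim j) t * (h.nW l * d)⁻¹ = h.xG (P.ng (P.sim j)) (u * t)) →
        ∀ t, h.nW l * d' * h.xG (P.sim j) t * (h.nW l * d')⁻¹ =
          h.xG (P.ng (P.sim j)) (e ^ (-P.A i (P.sim j)) * u * t) := by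
  obtain ⟨φ, hφ, hU, hL⟩ := h.exists_sl2 (F := F) hR (h.sim_lt hi)
  obtain ⟨g, hg⟩ := tau_flip hq e he
  have hgG : φ g ∈ D.group F := by
    have h2 : φ.range ≤ D.group F := by
      rw [hφ]
      refine sup_le ?_ ?_ <;> intro x hx <;> rw [← SetLike.mem_coe, h.rootSubgroup_eq] at hx <;>
        obtain ⟨t, rfl⟩ := hx <;> exact h.mem_group_of_xG _ _
    exact h2 ⟨g, rfl⟩
  have key := conj_sl2 h hU hL hy he hx g
  rw [hg, map_mul] at key
  have hN : ∀ (c : F) (hc : c ≠ 0), φ (sN c hc) = h.nt (P.sim i) c := by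
    intro c hc
    have e1 : (sN c hc : SL(2, F)) = sU c * sL (-c⁻¹) * sU c := by
      apply Subtype.ext
      ext a b
      fin_cases a <;> fin_cases b <;>
        simp [coe_sN, coe_sU, coe_sL, Matrix.SpecialLinearGroup.coe_mul, hc]
    rw [e1, map_mul, map_mul, hU, hL]
    rfl
  rw [hN, hN, show h.nt (P.sim i) e * h.nt (P.sim i) (-1) = h.ht (P.sim i) e from rfl] at key
  obtain ⟨d', hd', ed⟩ := diag_mul_word h hl (h.ht_mem (F := F) (h.sim_lt hi) he) hd
  refine ⟨φ g, hgG, d', hd', key.trans ed, fun j hj u hu t => ?_⟩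
  rw [← ed, show h.ht (P.sim i) e * (h.nW l * d) * h.xG (P.sim j) t * (h.ht (P.sim i) e * (h.nW l * d))⁻¹ =
    h.ht (P.sim i) e * (h.nW l * d * h.xG (P.sim j) t * (h.nW l * d)⁻¹) * (h.ht (P.sim i) e)⁻¹ by group, hu,
    h.ht_eq (h.sim_lt hi) he, h.dG_xG _ (Ok.ng_lt (h.sim_lt hj))]
  congr 1
  rw [h.pair_sim hi, h.A_ng (h.sim_lt hj) hi, mul_assoc]

theorem orth_fix (hO : ckOrthSim P = true) {i k : ℕ} (hi : i < P.rank) (hk : k < P.rank) (hne : i ≠ k)
    (hA : P.A i (P.sim k) = 0) : P.w i (P.sim k) = P.sim k ∧ P.eta i (P.sim k) = 1 := by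
  simp only [ckOrthSim, List.all_eq_true, List.mem_range, Bool.or_eq_true, Bool.and_eq_true, nbeq,
    decide_eq_true_eq, Bool.not_eq_true', decide_eq_false_iff_not] at hO
  rcases hO i hi k hk with e | ⟨e, -⟩
  · exact absurd e hne
  · exact e.resolve_left (fun e' => e' hA)

theorem orth_of_even (hO : ckOrthSim P = true) {i k : ℕ} (hi : i < P.rank) (hk : k < P.rank) (hne : i ≠ k)
    (h1 : P.A i (P.sim k) % 2 = 0) (h2 : P.A k (P.sim i) % 2 = 0) : P.A i (P.sim k) = 0 := by
  simp only [ckOrthSim, List.all_eq_true, List.mem_range, Bool.or_eq_true, Bool.and_eq_true, nbeq,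
    decide_eq_true_eq, Bool.not_eq_true', decide_eq_false_iff_not] at hO
  rcases hO i hi k hk with e | ⟨-, (e | e) | e⟩
  · exact absurd e hne
  · exact absurd h1 e
  · exact absurd h2 e
  · exact e

/-- The product of orthogonal fundamental reflections on their roots. -/
theorem orth_word (hO : ckOrthSim P = true) {M : List ℕ} (hM : WordOk P M)
    (horth : ∀ i ∈ M, ∀ k ∈ M, i ≠ k → P.A i (P.sim k) = 0) :
    ∀ k < P.rank, (∀ i ∈ M, i ≠ k → P.A i (P.sim k) = 0) → k ∉ M →
      ∀ t : F, wl P M (P.sim k) = P.sim k ∧ h.nW M * h.xG (P.sim k) t * (h.nW M)⁻¹ = h.xG (P.sim k) t := by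
  induction M with
  | nil => intro k _ _ _ t; exact ⟨rfl, by simp [h.nW_nil]⟩
  | cons i M ih =>
    intro k hk hA hkM t
    obtain ⟨e1, e2⟩ := ih hM.tail (fun a ha b hb => horth a (List.mem_cons_of_mem _ ha) b (List.mem_cons_of_mem _ hb))
      k hk (fun a ha => hA a (List.mem_cons_of_mem _ ha)) (fun hx => hkM (List.mem_cons_of_mem _ hx)) t
    have hne : i ≠ k := fun e => hkM (e ▸ List.mem_cons_self)
    obtain ⟨f1, f2⟩ := orth_fix h hO hM.head hk hne (hA i List.mem_cons_self hne)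
    refine ⟨by rw [wl, e1, f1], ?_⟩
    rw [h.nW_cons, show h.nG i * h.nW M * h.xG (P.sim k) t * (h.nG i * h.nW M)⁻¹ =
      h.nG i * (h.nW M * h.xG (P.sim k) t * (h.nW M)⁻¹) * (h.nG i)⁻¹ by group, e2,
      h.nG_xG hM.head (h.sim_lt hk), f1, f2, Int.cast_one, one_mul]

/-- On its own roots the product is minus one. -/
theorem orth_word_self (hO : ckOrthSim P = true) (hR : P.ckRefl = true) :
    ∀ {M : List ℕ}, WordOk P M → M.Nodup → (∀ i ∈ M, ∀ k ∈ M, i ≠ k → P.A i (P.sim k) = 0) →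
    ∀ k ∈ M, ∀ t : F, wl P M (P.sim k) = P.ng (P.sim k) ∧
      h.nW M * h.xG (P.sim k) t * (h.nW M)⁻¹ = h.xG (P.ng (P.sim k)) (-t)
  | [], _, _, _, k, hk, _ => absurd hk List.not_mem_nil
  | i :: M, hM, hnd, horth, k, hk, t => by
    obtain ⟨hiM, hnd'⟩ := List.nodup_cons.1 hnd
    have hor' : ∀ a ∈ M, ∀ b ∈ M, a ≠ b → P.A a (P.sim b) = 0 := fun a ha b hb =>
      horth a (List.mem_cons_of_mem _ ha) b (List.mem_cons_of_mem _ hb)
    have hkr := hM k hk
    rw [wl, h.nW_cons, show h.nG i * h.nW M * h.xG (P.sim k) t * (h.nG i * h.nW M)⁻¹ =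
      h.nG i * (h.nW M * h.xG (P.sim k) t * (h.nW M)⁻¹) * (h.nG i)⁻¹ by group]
    by_cases hki : k = i
    · subst hki
      obtain ⟨e1, e2⟩ := orth_word h hO hM.tail hor' k hkr
        (fun a ha hne => horth a (List.mem_cons_of_mem _ ha) k hk hne) hiM t
      rw [e1, e2, h.nG_xG hkr (h.sim_lt hkr), h.w_sim hkr, h.eta_sim hR hkr]
      exact ⟨rfl, by simp⟩
    · have hk' : k ∈ M := (List.mem_cons.1 hk).resolve_left hki
      obtain ⟨e1, e2⟩ := orth_word_self hO hR hM.tail hnd' hor' k hk' t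
      obtain ⟨f1, f2⟩ := orth_fix h hO hM.head hkr (Ne.symm hki) (horth i List.mem_cons_self k hk (Ne.symm hki))
      rw [e1, e2, h.nG_xG hM.head (Ok.ng_lt (h.sim_lt hkr)), h.w_ng hM.head (h.sim_lt hkr), f1,
        h.eta_ng hM.head (h.sim_lt hkr), f2, Int.cast_one, one_mul]
      exact ⟨rfl, rfl⟩

/-- Not all exponents are nonsquares. -/
theorem no_nonsquare (hR : P.ckRefl = true) (hO : ckOrthSim P = true) (hodd : ckOddRoot P = true)
    (hq : Fintype.card F % 2 = 1) {l : List ℕ} (hl : WordOk P l) {d : GL D.Idx F} (hd : d ∈ D.diagonalSubgroup F)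
    (hy : h.nW l * d * (h.nW l * d) = 1) {M : List ℕ} (hsub : List.Sublist M (List.range P.rank)) (hne : M ≠ [])
    (hM : ∀ i, i ∈ M ↔ i < P.rank ∧ P.isPos (wl P l (P.sim i)) = false)
    (hfix : ∀ i ∈ M, wl P l (P.sim i) = P.ng (P.sim i))
    {e : ℕ → F} (he : ∀ i ∈ M, e i ≠ 0 ∧ ∀ t, h.nW l * d * h.xG (P.sim i) t * (h.nW l * d)⁻¹ =
      h.xG (P.ng (P.sim i)) (e i * t))
    (hns : ∀ i ∈ M, ¬ IsSquare (e i)) (horth : ∀ i ∈ M, ∀ k ∈ M, i ≠ k → P.A i (P.sim k) = 0) : False := by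
  classical
  have hMok : WordOk P M := fun i hi => ((hM i).1 hi).1
  have hnd : M.Nodup := hsub.nodup List.nodup_range
  -- commutation
  have hcomm : ∀ N : List ℕ, (∀ i ∈ N, i ∈ M) → ∀ r < P.nroots, wl P (N ++ l) r = wl P (l ++ N) r := by
    intro N
    induction N with
    | nil => intro _ r _; simp
    | cons i N ih =>
      intro hN r hr
      have hiM := hN i List.mem_cons_self
      have hir := hMok i hiM
      have hNok : WordOk P N := fun x hx => hMok x (hN x (List.mem_cons_of_mem _ hx))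
      obtain ⟨he0, hex⟩ := he i hiM
      have h1 : h.nW l * d * h.nG i * (h.nW l * d)⁻¹ = h.ht (P.sim i) (-(e i)⁻¹) * h.nG i := by
        have hyi : (h.nW l * d)⁻¹ = h.nW l * d := inv_eq_of_mul_eq_one_right hy
        have hb : ∀ t, h.nW l * d * h.xG (P.ng (P.sim i)) t * (h.nW l * d)⁻¹ = h.xG (P.sim i) (t / e i) := by
          intro t
          have h2 := hex (t / e i)
          rw [mul_div_cancel₀ _ he0] at h2
          rw [← h2]
          calc _ = (h.nW l * d) * (h.nW l * d) * h.xG (P.sim i) (t / e i) * ((h.nW l * d) * (h.nW l * d))⁻¹ := by group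
            _ = _ := by rw [hy]; group
        have hnt : h.nW l * d * h.nG i * (h.nW l * d)⁻¹ = h.nt (P.ng (P.sim i)) (e i) := by
          rw [Ok.nG, Ok.nt, show ∀ a b c : GL D.Idx F, h.nW l * d * (a * b * c) * (h.nW l * d)⁻¹ =
            (h.nW l * d * a * (h.nW l * d)⁻¹) * (h.nW l * d * b * (h.nW l * d)⁻¹) * (h.nW l * d * c * (h.nW l * d)⁻¹)
            from fun a b c => by group, hex, hb, Ok.nt, Ok.ng_ng (h.sim_lt hir)]
          congr 2
          · simp
          · congr 1; simp [neg_div]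
          · simp
        obtain ⟨φ, -, hU, hL⟩ := h.exists_sl2 (F := F) hR (h.sim_lt hir)
        have e1 : (sL (e i) : SL(2, F)) * sU (-(e i)⁻¹) * sL (e i) =
            sU (-(e i)⁻¹) * sL (e i) * sU (-(e i)⁻¹) := by
          apply Subtype.ext
          ext a b
          fin_cases a <;> fin_cases b <;>
            simp [coe_sU, coe_sL, Matrix.SpecialLinearGroup.coe_mul, he0]
        rw [hnt, show h.nG i = h.nt (P.sim i) (1 : F) from rfl, ← h.nt_eq_ht_mul, Ok.nt, Ok.ng_ng (h.sim_lt hir), ← hL, ← hU, ← map_mul, ← map_mul, e1, map_mul, map_mul, hU, hL,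
          Ok.nt, inv_neg, inv_inv, neg_neg]
      have h2 : (h.nW (F := F) (i :: l))⁻¹ * h.nW (l ++ [i]) ∈ D.diagonalSubgroup F := by
        set n := h.nW (F := F) l
        set a := h.ht (P.sim i) (-(e i)⁻¹)
        have ha : a ∈ D.diagonalSubgroup F := h.ht_mem (h.sim_lt hir) (neg_ne_zero.2 (inv_ne_zero he0))
        have hni := Subgroup.mem_normalizer_iff.1 (h.nW_normalizer (F := F) [i] (by simpa [WordOk] using hir))
        have hnn := Subgroup.mem_normalizer_iff.1 (h.nW_normalizer (F := F) l hl)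
        have hs : h.nW (F := F) [i] = h.nG i := by simp [Ok.nW]
        rw [h.nW_cons, h.nW_append, hs]
        have e3 : (h.nG i * n)⁻¹ * (n * h.nG i) =
            (n⁻¹ * ((h.nG i)⁻¹ * a * h.nG i) * n) *
              (d * ((h.nG i)⁻¹ * d⁻¹ * h.nG i)) := by
          have h4 : n * d * h.nG i = a * h.nG i * (n * d) := mul_inv_eq_iff_eq_mul.1 h1
          calc (h.nG i * n)⁻¹ * (n * h.nG i)
              = n⁻¹ * (h.nG i)⁻¹ * (n * d * h.nG i) * ((h.nG i)⁻¹ * d⁻¹ * h.nG i) := by group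
            _ = _ := by rw [h4]; group
        rw [e3]
        have hconj : ∀ z ∈ D.diagonalSubgroup F, (h.nG i)⁻¹ * z * h.nG i ∈ D.diagonalSubgroup F := fun z hz => by
          refine (hni _).2 ?_
          rw [hs]; simpa [mul_assoc] using hz
        refine mul_mem ?_ (mul_mem hd (hconj _ (inv_mem hd)))
        refine (hnn _).2 ?_
        rw [show ∀ z : GL D.Idx F, n * (n⁻¹ * z * n) * n⁻¹ = z from fun z => by group]
        exact hconj a ha
      have h3 := fun r hr => h.wl_eq_of_mem (F := F) (l := i :: l) (l' := l ++ [i]) (by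
        intro x hx; rcases List.mem_cons.1 hx with rfl | hx; exacts [hir, hl x hx])
        (wordOk_append hl (by simpa [WordOk] using hir)) h2 (r := r) hr
      rw [List.cons_append, wl, ih (fun x hx => hN x (List.mem_cons_of_mem _ hx)) r hr, wl_append,
        show P.w i (wl P l (wl P N r)) = wl P (i :: l) (wl P N r) from rfl, h3 _ (h.wl_lt N hNok r hr), wl_append]
      rw [wl_append]
      rfl
  have hself := fun k hk => (orth_word_self h hO hR hMok hnd horth k hk (0 : F)).1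
  have hposout : ∀ k < P.rank, k ∉ M → P.isPos (wl P M (P.sim k)) = true := fun k hk hkM =>
    h.pos_of_rv (h.wl_lt M hMok _ (h.sim_lt hk)) hk (by
      rw [h.wl_outside (J := M) ⟨hMok, fun _ hx => hx⟩ (h.sim_lt hk) hk hkM, h.rv_sim hk hk, if_pos rfl]
      omega)
  have hid : ∀ r < P.nroots, wl P (l ++ M) r = r := by
    refine h.wl_eq_id (l ++ M).length _ le_rfl (wordOk_append hl hMok) (fun k hk => ?_)
    by_cases hkM : k ∈ M
    · rw [wl_append, hself k hkM, h.wl_ng l hl _ (h.sim_lt hk), hfix k hkM, Ok.ng_ng (h.sim_lt hk)]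
      exact h.sim_pos hk
    · rw [← hcomm M (fun _ hx => hx) _ (h.sim_lt hk), wl_append]
      by_contra hneg
      have hbpos : P.isPos (wl P l (P.sim k)) = true := by
        by_contra hb
        exact hkM ((hM k).2 ⟨hk, by simpa using hb⟩)
      have key : ∀ N : List ℕ, (∀ i ∈ N, i ∈ M) → N.Nodup → ∀ b < P.nroots, P.isPos b = true →
          P.isPos (wl P N b) ≠ true → ∃ i ∈ N, b = P.sim i := by
        intro N
        induction N with
        | nil => intro _ _ b _ hb hb'; exact absurd hb hb'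
        | cons i N ih =>
          intro hN hnd b hb hbp hbn
          obtain ⟨hiN, hnd'⟩ := List.nodup_cons.1 hnd
          have hNok : WordOk P N := fun x hx => hMok x (hN x (List.mem_cons_of_mem _ hx))
          have hN' : ∀ x ∈ N, x ∈ M := fun x hx => hN x (List.mem_cons_of_mem _ hx)
          by_cases hp : P.isPos (wl P N b) = true
          · have hir := hMok i (hN i List.mem_cons_self)
            have hlt := h.wl_lt N hNok b hb
            rcases (h.w_spec hir hlt).2.2.2.2.2.2.1 with e1 | e1 | e1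
            · refine ⟨i, List.mem_cons_self, ?_⟩
              have hfx := (orth_word h hO hNok (fun a ha c hc => horth a (hN' a ha) c (hN' c hc)) i hir
                (fun a ha hne => horth a (hN' a ha) i (hN i List.mem_cons_self) hne) hiN (0 : F)).1
              have e2 := congrArg (wl P N.reverse) (e1.trans hfx.symm)
              rwa [h.wl_reverse N hNok b hb, h.wl_reverse N hNok _ (h.sim_lt hir)] at e2
            · rw [e1, h.ng_pos_iff (h.sim_lt hir), h.sim_pos hir] at hp; simp at hp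
            · exact absurd (show P.isPos (wl P (i :: N) b) = true from e1 ▸ hp) hbn
          · obtain ⟨i', hi', e'⟩ := ih hN' hnd' b hb hbp hp
            exact ⟨i', List.mem_cons_of_mem _ hi', e'⟩
      obtain ⟨i, hiM, ei⟩ := key M (fun _ hx => hx) hnd _ (h.wl_lt l hl _ (h.sim_lt hk)) hbpos hneg
      have e2 := congrArg (wl P l) ei
      rw [wl_invol h hl hd hy (h.sim_lt hk), hfix i hiM] at e2
      have e3 := h.sim_pos hk
      rw [e2, h.ng_pos_iff (h.sim_lt (hMok i hiM)), h.sim_pos (hMok i hiM)] at e3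
      simp at e3
  have hMr : WordOk P M.reverse := fun x hx => hMok x (List.mem_reverse.1 hx)
  have heq : ∀ r < P.nroots, wl P M r = wl P l r := by
    intro r hr
    have h1 := congrArg (wl P l) (hid r hr)
    rw [wl_append, wl_invol h hl hd hy (h.wl_lt M hMok r hr)] at h1
    exact h1
  have hdg := h.mem_diagonal_of_wl_eq (F := F) hMok hl heq
  set d0 := (h.nW M)⁻¹ * h.nW l * d with hd0
  have hd0m : d0 ∈ D.diagonalSubgroup F := mul_mem hdg hd
  obtain ⟨c, hc⟩ := h.mem_diagonal_iff.1 hd0m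
  have hyeq : h.nW l * d = h.nW M * h.hHom c := by rw [hc, hd0]; group
  have hchi : ∀ i ∈ M, hchar P c (P.sim i) = - e i := by
    intro i hi
    obtain ⟨-, hex⟩ := he i hi
    have h1 := hex 1
    rw [hyeq, show h.nW M * h.hHom c * h.xG (P.sim i) 1 * (h.nW M * h.hHom c)⁻¹ =
      h.nW M * (h.hHom c * h.xG (P.sim i) 1 * (h.hHom c)⁻¹) * (h.nW M)⁻¹ by group,
      h.hHom_xG c (h.sim_lt (hMok i hi)), (orth_word_self h hO hR hMok hnd horth i hi _).2, mul_one, mul_one] at h1
    linear_combination -(h.xG_inj_param (Ok.ng_lt (h.sim_lt (hMok i hi))) h1)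
  simp only [ckOddRoot, List.all_eq_true, List.mem_sublists, Bool.or_eq_true, List.isEmpty_iff, List.any_eq_true,
    Bool.not_eq_true', List.all_eq_false, List.any_eq_false, List.mem_range, Bool.and_eq_true, decide_eq_true_eq,
    nbeq] at hodd
  obtain ⟨s, hs, ⟨hsgn, hpar⟩, hsM⟩ : ∃ s < P.rank, ((nsg P (M ++ M) (P.sim s)).2 = -1 ∧
      (M.map fun i => P.rv (wl P M (P.sim s)) i).sum % 2 = 1) ∧ s ∉ M := by
    rcases hodd M hsub with (e0 | e0) | ⟨s, hs, ⟨a, b⟩, c0⟩
    · exact absurd e0 hne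
    · exfalso
      obtain ⟨i, hi, e0⟩ := e0
      exact e0 fun k hk => or_iff_not_imp_left.2 (horth i hi k hk)
    · exact ⟨s, hs, ⟨a, b⟩, fun hsM => c0 s hsM rfl⟩
  set m := wl P M (P.sim s) with hm
  have hmlt : m < P.nroots := h.wl_lt M hMok _ (h.sim_lt hs)
  have hyy : h.nW (M ++ M) * ((h.nW M)⁻¹ * h.hHom c * h.nW M * h.hHom c) = 1 := by
    rw [h.nW_append, ← hy, hyeq]; group
  have hdl : (h.nW M)⁻¹ * h.hHom c * h.nW M ∈ D.diagonalSubgroup F := by
    refine (Subgroup.mem_normalizer_iff.1 (h.nW_normalizer (F := F) M hMok) _).2 ?_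
    simpa [mul_assoc] using (h.mem_diagonal_iff.2 ⟨c, rfl⟩ : h.hHom c ∈ D.diagonalSubgroup F)
  obtain ⟨c2, hc2⟩ := h.mem_diagonal_iff.1 hdl
  have hc2s : hchar P c2 (P.sim s) = hchar P c m := by
    refine (CyclTorus.char_wl h hMok ?_ (h.sim_lt hs)).symm
    rw [hc2]; group
  have hprod : (-1 : F) * (hchar P c m * hchar P c (P.sim s)) = 1 := by
    have h2 := h.xG_inj_param (F := F) (t := (-1 : F) * (hchar P c m * hchar P c (P.sim s))) (s := 1)
      (h.sim_lt hs) ?_
    exact h2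
    have hsig := (h.nW_xG_sign (M ++ M) (wordOk_append hMok hMok) (P.sim s) (h.sim_lt hs)
      (hchar P c m * hchar P c (P.sim s)))
    rw [wl_append, ← hm] at hsig
    have hback : wl P M m = P.sim s := by
      rw [heq m hmlt, hm, heq _ (h.sim_lt hs), wl_invol h hl hd hy (h.sim_lt hs)]
    rw [hback] at hsig
    rw [hsig.1, hsgn, Int.cast_neg, Int.cast_one] at hsig
    rw [← hsig.2, ← hc2s, mul_comm (hchar P c2 _)]
    have h3 : h.hHom c2 * h.hHom c * h.xG (P.sim s) 1 * (h.hHom c2 * h.hHom c)⁻¹ =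
        h.xG (P.sim s) (hchar P c (P.sim s) * hchar P c2 (P.sim s)) := by
      rw [show h.hHom c2 * h.hHom c * h.xG (P.sim s) 1 * (h.hHom c2 * h.hHom c)⁻¹ =
        h.hHom c2 * (h.hHom c * h.xG (P.sim s) 1 * (h.hHom c)⁻¹) * (h.hHom c2)⁻¹ by group,
        h.hHom_xG c (h.sim_lt hs), h.hHom_xG c2 (h.sim_lt hs), mul_one, mul_comm]
    rw [← h3, hc2]
    calc _ = (h.nW (M ++ M) * ((h.nW M)⁻¹ * h.hHom c * h.nW M * h.hHom c)) * h.xG (P.sim s) 1 *
          (h.nW (M ++ M) * ((h.nW M)⁻¹ * h.hHom c * h.nW M * h.hHom c))⁻¹ := by group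
      _ = _ := by rw [hyy]; group
  -- raise to half of the order
  set k := Fintype.card F / 2
  set u : Fin P.rank → Fˣ := CyclTorus.simChar P c with hu
  have hux : ∀ i : Fin P.rank, (u i : F) = hchar P c (P.sim i) := fun i => by
    rw [hu, CyclTorus.simChar, CyclTorus.coe_prod_zpow]
  have hF2 := ne_two h hq
  have h2k : ∀ z : Fˣ, z ^ k * z ^ k = 1 := fun z => by
    rw [← pow_add, show k + k = Fintype.card F - 1 by omega]
    exact Units.ext (by rw [Units.val_pow_eq_pow_val]; exact FiniteField.pow_card_sub_one_eq_one _ z.ne_zero)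
  have hm1 : ∀ i : Fin P.rank, i.val ∈ M → u i ^ k = (-1) ^ k * -1 := by
    intro i hi
    have h1 : (e i) ^ k = -1 := (FiniteField.pow_dichotomy hF2 (he i hi).1).resolve_left
      fun e1 => hns i hi ((FiniteField.isSquare_iff hF2 (he i hi).1).2 e1)
    apply Units.ext
    rw [Units.val_pow_eq_pow_val, hux, hchi i hi, neg_pow, h1]
    simp
  have hP : (u ⟨s, hs⟩ ^ k * (∏ i : Fin P.rank, u i ^ P.rv m i) ^ k : Fˣ) = (-1) ^ k := by
    have e1 : ((-1 : Fˣ) * (u ⟨s, hs⟩ * ∏ i : Fin P.rank, u i ^ P.rv m i)) = 1 := Units.ext (by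
      rw [Units.val_mul, Units.val_mul, Units.val_neg, Units.val_one, hux, ← CyclTorus.hchar_eq h c hmlt,
        mul_comm (hchar P c (P.sim s))]
      exact hprod)
    have e2 := congrArg (· ^ k) e1
    simp only [mul_pow, one_pow] at e2
    have e3 := congrArg ((-1 : Fˣ) ^ k * ·) e2
    rw [← mul_assoc, h2k, one_mul, mul_one] at e3
    exact e3
  have hprod2 : (∏ i : Fin P.rank, u i ^ P.rv m i) ^ k =
      u ⟨s, hs⟩ ^ k * ((-1 : Fˣ) ^ k * -1) ^ (M.map fun i => P.rv m i).sum := by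
    rw [← Finset.prod_pow]
    simp only [← zpow_natCast, ← zpow_mul, mul_comm (P.rv m _)]
    simp only [zpow_mul, zpow_natCast]
    have hms : P.rv m s = 1 := by
      rw [hm, h.wl_outside (J := M) ⟨hMok, fun _ hx => hx⟩ (h.sim_lt hs) hs hsM, h.rv_sim hs hs, if_pos rfl]
    have hzero : ∀ j : Fin P.rank, j.val ∉ M → j.val ≠ s → P.rv m j = 0 := fun j hj hjs => by
      rw [hm, h.wl_outside (J := M) ⟨hMok, fun _ hx => hx⟩ (h.sim_lt hs) j.isLt hj, h.rv_sim hs j.isLt,
        if_neg (fun e => hjs e.symm)]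
    rw [← Finset.mul_prod_erase _ _ (Finset.mem_univ ⟨s, hs⟩), hms, zpow_one]
    congr 1
    rw [← List.sum_toFinset _ hnd, ← prod_zpow_sum]
    have hall : ∀ j ∈ (Finset.univ.erase (⟨s, hs⟩ : Fin P.rank)),
        (u j ^ k) ^ P.rv m j = if j.val ∈ M then ((-1 : Fˣ) ^ k * -1) ^ P.rv m j else 1 := by
      intro j hj
      by_cases hjM : j.val ∈ M
      · rw [if_pos hjM, hm1 j hjM]
      · rw [if_neg hjM, hzero j hjM (fun e => (Finset.mem_erase.1 hj).1 (Fin.ext e)), zpow_zero]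
    rw [Finset.prod_congr rfl hall, Finset.prod_ite, Finset.prod_const_one, mul_one]
    refine Finset.prod_bij (fun j _ => j.val) (fun j hj => ?_) (fun a _ b _ e => Fin.ext e) (fun j hj => ?_)
      (fun j _ => rfl)
    · simpa using (Finset.mem_filter.1 hj).2
    · have hjM := List.mem_toFinset.1 hj
      exact ⟨⟨j, hMok j hjM⟩, by simp [hjM, Fin.ext_iff]; exact fun e => hsM (e ▸ hjM), rfl⟩
  rw [hprod2, ← mul_assoc, h2k, one_mul] at hP
  obtain ⟨z, hz⟩ : ∃ z : ℤ, (M.map fun i => P.rv m i).sum = 2 * z + 1 := ⟨_, (Int.emod_add_mul_ediv _ 2).symm.trans (by rw [hpar, add_comm])⟩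
  rw [hz, zpow_add, zpow_mul, zpow_one] at hP
  have hsq : ((-1 : Fˣ) ^ k * -1) ^ (2 : ℤ) = 1 := by
    rw [zpow_two, mul_mul_mul_comm, h2k, one_mul, neg_mul_neg, one_mul]
  rw [hsq, one_zpow, one_mul] at hP
  have : (-1 : Fˣ) = 1 := mul_eq_left.1 hP
  have h1 := congrArg (fun z : Fˣ => (z : F)) this
  simp only [Units.val_neg, Units.val_one] at h1
  exact Ring.neg_one_ne_one_of_char_ne_two hF2 h1

theorem torus_conj_aux (hC : P.ckComm = true) (hR : P.ckRefl = true) (hO : ckOrthSim P = true)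
    (hodd : ckOddRoot P = true) (hq : Fintype.card F % 2 = 1) :
    ∀ (N : ℕ) (l : List ℕ), WordOk P l → invJ P (List.range P.rank) (act P l) ≤ N →
      ∀ d ∈ D.diagonalSubgroup F, h.nW l * d * (h.nW l * d) = 1 →
        ∃ g ∈ D.group F, g * (h.nW l * d) * g⁻¹ ∈ D.diagonalSubgroup F := by
  classical
  intro N
  induction N using Nat.strong_induction_on with
  | _ N ih =>
    intro l hl hN d hd hy
    have rec' : ∀ g ∈ D.group F, ∀ l', WordOk P l' →
        invJ P (List.range P.rank) (act P l') < invJ P (List.range P.rank) (act P l) →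
        ∀ d' ∈ D.diagonalSubgroup F, g * (h.nW l * d) * g⁻¹ = h.nW l' * d' →
          ∃ g ∈ D.group F, g * (h.nW l * d) * g⁻¹ ∈ D.diagonalSubgroup F := by
      intro g hg l' hl' hlt d' hd' e
      obtain ⟨g', hg', hT⟩ := ih _ (lt_of_lt_of_le hlt hN) l' hl' le_rfl d' hd' (by
        rw [← e, show g * (h.nW l * d) * g⁻¹ * (g * (h.nW l * d) * g⁻¹) = g * (h.nW l * d * (h.nW l * d)) * g⁻¹ by
          group, hy]
        group)
      refine ⟨g' * g, mul_mem hg' hg, ?_⟩
      rw [show g' * g * (h.nW l * d) * (g' * g)⁻¹ = g' * (g * (h.nW l * d) * g⁻¹) * g'⁻¹ by group, e]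
      exact hT
    by_cases h1 : ∃ i < P.rank, P.isPos (wl P l (P.sim i)) = false ∧ wl P l (P.sim i) ≠ P.ng (P.sim i)
    · obtain ⟨i, hi, hneg, hne⟩ := h1
      have hsl := h.sim_lt hi
      have hiw : WordOk P [i] := by simpa [WordOk] using hi
      have hv : WordOk P (l ++ [i]) := wordOk_append hl hiw
      have hvr : WordOk P (l ++ [i]).reverse := fun x hx => hv x (List.mem_reverse.1 hx)
      have hl' : WordOk P ([i] ++ (l ++ [i])) := wordOk_append hiw hv
      have hw1 : h.nW (F := F) [i] = h.nG i := by simp [Ok.nW]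
      have hsqm : (h.nG i)⁻¹ * (h.nG i)⁻¹ ∈ D.diagonalSubgroup F := by
        rw [← mul_inv_rev]; exact inv_mem (h.nG_sq hi)
      have hdn : (h.nG i)⁻¹ * d * h.nG i ∈ D.diagonalSubgroup F := by
        refine (Subgroup.mem_normalizer_iff.1 (h.nW_normalizer (F := F) [i] hiw) _).2 ?_
        rw [hw1]; simpa [mul_assoc] using hd
      refine rec' (h.nG i) (hw1 ▸ h.monomial_le_group (h.nW_mem _ hiw)) _ hl' ?_
        ((h.nG i)⁻¹ * d * h.nG i * ((h.nG i)⁻¹ * (h.nG i)⁻¹)) (mul_mem hdn hsqm) ?_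
      · have h2 := h.invJ_lt (J := List.range P.rank) hl hi (List.mem_range.2 hi) hneg
        refine lt_of_le_of_lt (le_of_eq (invJ_rev h hl').symm) (lt_of_lt_of_le ?_ (le_trans (le_of_eq (invJ_rev h hv)) h2.le))
        rw [List.reverse_append, show ([i] : List ℕ).reverse = [i] from rfl]
        refine h.invJ_lt hvr hi (List.mem_range.2 hi) ?_
        rw [List.reverse_append, List.reverse_singleton, wl_append]
        have h3 : wl P l.reverse (P.sim i) = wl P l (P.sim i) := by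
          conv_lhs => rw [← wl_invol h hl hd hy hsl]
          rw [h.wl_reverse l hl _ (h.wl_lt l hl _ hsl)]
        rw [h3]
        show P.isPos (P.w i (wl P l (P.sim i))) = false
        rcases (h.w_spec hi (h.wl_lt l hl _ hsl)).2.2.2.2.2.2.1 with e | e | e
        · rw [e, h.sim_pos hi] at hneg; simp at hneg
        · exact absurd e hne
        · rw [← e]; exact hneg
      · rw [h.nW_append, h.nW_append, hw1]
        group
    push_neg at h1
    by_cases h2 : ∀ i < P.rank, P.isPos (wl P l (P.sim i)) = true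
    · refine ⟨1, one_mem _, ?_⟩
      rw [one_mul, inv_one, mul_one]
      exact mul_mem (h.nW_mem_diagonal hl (h.wl_eq_id l.length l le_rfl hl h2)) hd
    set M := (List.range P.rank).filter fun i => !P.isPos (wl P l (P.sim i)) with hMdef
    have hM : ∀ i, i ∈ M ↔ i < P.rank ∧ P.isPos (wl P l (P.sim i)) = false := fun i => by simp [hMdef]
    have hfix : ∀ i ∈ M, wl P l (P.sim i) = P.ng (P.sim i) := fun i hi => h1 i ((hM i).1 hi).1 ((hM i).1 hi).2
    have hne : M ≠ [] := by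
      push_neg at h2
      obtain ⟨i, hi, hi'⟩ := h2
      exact List.ne_nil_of_mem ((hM i).2 ⟨hi, by simpa using hi'⟩)
    have hex : ∀ i, ∃ e : F, i ∈ M → (e ≠ 0 ∧ ∀ t, h.nW l * d * h.xG (P.sim i) t * (h.nW l * d)⁻¹ =
        h.xG (P.ng (P.sim i)) (e * t)) := by
      intro i
      by_cases hi : i ∈ M
      · obtain ⟨e, he, hx⟩ := h.conj_nW hl hd (h.sim_lt ((hM i).1 hi).1)
        exact ⟨e, fun _ => ⟨he, fun t => by rw [hx, hfix i hi]⟩⟩
      · exact ⟨0, fun hh => absurd hh hi⟩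
    choose e he using hex
    by_cases h3 : ∃ i ∈ M, IsSquare (e i)
    · obtain ⟨i, hi, hsq⟩ := h3
      obtain ⟨g, hg, l', hl', hlt, d', hd', eg⟩ := step_square h hC hR hq hl hd hy ((hM i).1 hi).1 (hfix i hi)
        (he i hi).1 (he i hi).2 hsq
      exact rec' g hg l' hl' hlt d' hd' eg
    push_neg at h3
    by_cases h4 : ∃ i ∈ M, ∃ j ∈ M, i ≠ j ∧ P.A i (P.sim j) % 2 ≠ 0
    · obtain ⟨i, hi, j, hj, -, hA⟩ := h4
      obtain ⟨g, hg, d', hd', eg, hnew⟩ := step_flip h hR hq hl hd hy ((hM i).1 hi).1 (he i hi).1 (he i hi).2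
      have hy' : h.nW l * d' * (h.nW l * d') = 1 := by
        rw [← eg, show g * (h.nW l * d) * g⁻¹ * (g * (h.nW l * d) * g⁻¹) = g * (h.nW l * d * (h.nW l * d)) * g⁻¹ by
          group, hy]
        group
      have hu0 : e i ^ (-P.A i (P.sim j)) * e j ≠ 0 := mul_ne_zero (zpow_ne_zero _ (he i hi).1) (he j hj).1
      have hsq : IsSquare (e i ^ (-P.A i (P.sim j)) * e j) := by
        have hF2 := ne_two h hq
        rw [FiniteField.isSquare_iff hF2 hu0, mul_pow,
          (FiniteField.pow_dichotomy hF2 (he j hj).1).resolve_left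
            (fun e1 => h3 j hj ((FiniteField.isSquare_iff hF2 (he j hj).1).2 e1)),
          ← zpow_natCast, ← zpow_mul, mul_comm (-P.A i (P.sim j)), zpow_mul, zpow_natCast,
          (FiniteField.pow_dichotomy hF2 (he i hi).1).resolve_left
            (fun e1 => h3 i hi ((FiniteField.isSquare_iff hF2 (he i hi).1).2 e1)),
          Odd.neg_one_zpow (Int.odd_iff.2 (by omega))]
        ring
      obtain ⟨g', hg', l', hl', hlt, d'', hd'', eg'⟩ := step_square h hC hR hq hl hd' hy' ((hM j).1 hj).1 (hfix j hj)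
        hu0 (hnew j ((hM j).1 hj).1 (e j) (he j hj).2) hsq
      refine rec' (g' * g) (mul_mem hg' hg) l' hl' hlt d'' hd'' ?_
      rw [← eg', ← eg]
      group
    push_neg at h4
    exact (no_nonsquare h hR hO hodd hq hl hd hy (List.filter_sublist) hne hM hfix he h3
      fun i hi k hk hik => orth_of_even h hO ((hM i).1 hi).1 ((hM k).1 hk).1 hik
        (h4 i hi k hk hik) (h4 k hk i hi (Ne.symm hik))).elim

/-- An involution lies in a conjugate of the split torus. -/
theorem exists_torus_conj (hC : P.ckComm = true) (hR : P.ckRefl = true) (hO : ckOrthSim P = true)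
    (hodd : ckOddRoot P = true) (hq : Fintype.card F % 2 = 1) {x : GL D.Idx F} (hx : x ∈ D.group F)
    (h2 : x * x = 1) : ∃ g ∈ D.group F, g * x * g⁻¹ ∈ D.diagonalSubgroup F := by
  classical
  obtain ⟨b, hb, l, hl, u, hu, rfl⟩ := h.bruhat_exists hC hx
  set n := h.nW (F := F) l with hn
  have hbG := h.borel_le_group hb
  obtain ⟨u0, hu0, d0, hd0, e0⟩ :=
    h.mem_borel (mul_mem (Subgroup.mem_sup_left (h.negS_le_pos l hu) : u ∈ D.borelSubgroup F) hb)
  set x1 := n * (u0 * d0) with hx1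
  have hx1b : b⁻¹ * (b * n * u) * b = x1 := by rw [hx1, ← e0]; group
  have h21 : x1 * x1 = 1 := by
    rw [← hx1b, show b⁻¹ * (b * n * u) * b * (b⁻¹ * (b * n * u) * b) = b⁻¹ * ((b * n * u) * (b * n * u)) * b by group,
      h2]
    group
  set k := n * d0 with hk
  have hu0' : d0⁻¹ * u0 * d0 ∈ D.posUnipotent F := by
    simpa using (Subgroup.mem_normalizer_iff.1 (h.diagonal_normalizes (inv_mem hd0)) u0).1 hu0
  obtain ⟨a, ha, c, hc, e3⟩ := h.split_pos hC (fun r => P.isPos (wl P l r) = true)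
    (fun r => P.isPos (wl P l r) = false) (fun r _ => by cases P.isPos (wl P l r) <;> simp) hu0'
  have hx1' : x1 = k * a * c := by
    rw [hx1, hk, mul_assoc _ a c, ← e3]; group
  set a' := k * a * k⁻¹ with ha'
  have ha'U : a' ∈ D.posUnipotent F := h.uplus_conj hl hd0 ha
  have hcU : c ∈ D.posUnipotent F := h.negS_le_pos l (show c ∈ h.genR (negS P l) from hc)
  have hlr : WordOk P l.reverse := fun r hr => hl r (List.mem_reverse.1 hr)
  have hinv1 : x1⁻¹ = x1 := inv_eq_of_mul_eq_one_right h21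
  have hrev : h.nW (F := F) (l.reverse ++ l) ∈ D.diagonalSubgroup F :=
    h.nW_mem_diagonal (wordOk_append hlr hl) fun r hr => by rw [wl_append]; exact h.wl_reverse l hl r hr
  rw [h.nW_append] at hrev
  set e1 := (h.nW (F := F) l.reverse * n) with he1
  have hninv : n⁻¹ = e1⁻¹ * h.nW l.reverse := by rw [he1]; group
  have hkinv : x1⁻¹ = c⁻¹ * a⁻¹ * (d0⁻¹ * e1⁻¹) * (h.nW l.reverse * 1) * 1 := by
    rw [hx1', hk, show (n * d0 * a * c)⁻¹ = c⁻¹ * a⁻¹ * d0⁻¹ * n⁻¹ by group, hninv]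
    group
  have haU : a ∈ D.posUnipotent F := h.genR_le (fun r hr t => h.xG_mem_pos hr.1 t) ha
  have hwinv : ∀ r < P.nroots, wl P l r = wl P l.reverse r := by
    intro r hr
    refine h.wl_eq_of_mem (F := F) hl hlr ?_ hr
    refine h.bruhat_unique hC (b := a') (b' := c⁻¹ * a⁻¹ * (d0⁻¹ * e1⁻¹))
      (Subgroup.mem_sup_left ha'U) ?_ hl hlr hd0 (one_mem _) hcU (one_mem _) ?_
    · exact mul_mem (mul_mem (Subgroup.mem_sup_left (inv_mem hcU)) (Subgroup.mem_sup_left (inv_mem haU)))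
        (Subgroup.mem_sup_right (mul_mem (inv_mem hd0) (inv_mem hrev)))
    · rw [← hkinv, hinv1, hx1', ha', hk, hn]; group
  have hll : ∀ r < P.nroots, wl P l (wl P l r) = r := fun r hr => by
    conv_lhs => rw [hwinv _ (h.wl_lt l hl r hr)]
    exact h.wl_reverse l hl r hr
  have hk2 : k * k ∈ D.diagonalSubgroup F := by
    have h3 : n * n ∈ D.diagonalSubgroup F := by
      rw [hn, ← h.nW_append]
      exact h.nW_mem_diagonal (wordOk_append hl hl) fun r hr => by rw [wl_append]; exact hll r hr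
    rw [hk, show n * d0 * (n * d0) = (n * d0 * n⁻¹) * (n * n) * d0 by group]
    exact mul_mem (mul_mem ((Subgroup.mem_normalizer_iff.1 (h.nW_normalizer (F := F) l hl) d0).1 hd0) h3) hd0
  have ha'p : a' ∈ h.genR (fun r => P.isPos r = true ∧ P.isPos (wl P l r) = true) := by
    have hle : h.genR (F := F) (fun r => P.isPos r = true ∧ P.isPos (wl P l r) = true) ≤
        (h.genR (fun r => P.isPos r = true ∧ P.isPos (wl P l r) = true)).comap (MulAut.conj k).toMonoidHom := by
      refine h.genR_le fun r hr t => ?_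
      have hrn := (P.isPos_iff.1 hr.1).2
      obtain ⟨ee, -, hxx⟩ := h.conj_nW hl hd0 hrn
      rw [Subgroup.mem_comap, MulEquiv.toMonoidHom_eq_coe, MonoidHom.coe_coe, MulAut.conj_apply, hk, hn, hxx t]
      exact h.xG_mem_genR ⟨hr.2, by rw [hll r hrn]; exact hr.1⟩ _
    simpa [ha'] using hle ha
  set ek := (k * k)⁻¹ with hek
  have hekT : ek ∈ D.diagonalSubgroup F := inv_mem hk2
  set q2 := k * ek * a'⁻¹ * (k * ek)⁻¹ with hq2
  have hq2U : q2 ∈ D.posUnipotent F := by
    rw [hq2, hk, mul_assoc n d0 ek]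
    exact h.uplus_conj hl (mul_mem hd0 hekT) (inv_mem ha'p)
  have hB : c⁻¹ * q2 * (n * (d0 * ek * d0⁻¹) * n⁻¹) ∈ D.borelSubgroup F :=
    mul_mem (mul_mem (Subgroup.mem_sup_left (inv_mem hcU)) (Subgroup.mem_sup_left hq2U))
      (Subgroup.mem_sup_right ((Subgroup.mem_normalizer_iff.1 (h.nW_normalizer (F := F) l hl) _).1
        (mul_mem (mul_mem hd0 hekT) (inv_mem hd0))))
  have hc1 : c = 1 := by
    refine (h.bruhat_factor hl hd0 (Subgroup.mem_sup_left ha'U) hB (show c ∈ h.genR (negS P l) from hc) (one_mem _) ?_).2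
    have h5 : a' * (n * d0) * c = x1⁻¹ := by rw [hinv1, hx1', ha', hk]; group
    rw [h5, hx1', hq2, hek, ha', hk, hn]
    group
  have hxy : x1 = a' * k := by rw [hx1', hc1, ha']; group
  have hka : k * a' * k⁻¹ * a' ∈ D.posUnipotent F := mul_mem (h.uplus_conj hl hd0 ha'p) ha'U
  have hsq : a' * (k * a' * k⁻¹) * (k * k) = 1 := by rw [← h21, hxy]; group
  have hk1 : k * k = 1 := by
    have h4 : k * k ∈ D.posUnipotent F ⊓ D.diagonalSubgroup F := by
      refine Subgroup.mem_inf.2 ⟨?_, hk2⟩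
      rw [eq_inv_of_mul_eq_one_right hsq]
      exact inv_mem (mul_mem ha'U (h.uplus_conj hl hd0 ha'p))
    rwa [h.pos_inf_diagonal, Subgroup.mem_bot] at h4
  rw [hk1, mul_one] at hsq
  have hinvert : k * a' * k⁻¹ = a'⁻¹ := eq_inv_of_mul_eq_one_right hsq
  -- a square root of odd order
  have hord : Odd (orderOf a') := by
    obtain ⟨p, hp⟩ := CharP.exists F
    haveI := hp
    haveI : Fact p.Prime := ⟨CharP.char_is_prime F p⟩
    obtain ⟨nn, -, hcard⟩ := FiniteField.card F p
    have h5 : orderOf (⟨a', ha'U⟩ : D.posUnipotent F) ∣ Fintype.card F ^ (P.nroots / 2) := by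
      rw [← h.card_pos (F := F) hC]; exact orderOf_dvd_natCard _
    rw [← Subgroup.orderOf_coe] at h5
    exact Odd.of_dvd_nat (Odd.pow (Nat.odd_iff.2 hq)) h5
  obtain ⟨o, ho⟩ := hord
  set s := a' ^ (o + 1) with hs
  have hss : s * s = a' := by
    rw [hs, ← pow_add, show o + 1 + (o + 1) = orderOf a' + 1 by omega, pow_succ, pow_orderOf_eq_one, one_mul]
  have hks : k * s * k⁻¹ = s⁻¹ := by
    rw [hs, ← conj_pow, hinvert, inv_pow]
  have hfin : s⁻¹ * x1 * s = k := by
    rw [hxy, ← hss, show s⁻¹ * (s * s * k) * s = s * (k * s * k⁻¹) * k by group, hks, mul_inv_cancel, one_mul]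
  obtain ⟨g, hg, hT⟩ := torus_conj_aux h hC hR hO hodd hq _ l hl le_rfl d0 hd0 hk1
  refine ⟨g * (s⁻¹ * b⁻¹), mul_mem hg (mul_mem (inv_mem ?_) (inv_mem hbG)), ?_⟩
  · exact h.borel_le_group (Subgroup.mem_sup_left (pow_mem ha'U _))
  · rw [show g * (s⁻¹ * b⁻¹) * (b * n * u) * (g * (s⁻¹ * b⁻¹))⁻¹ = g * (s⁻¹ * (b⁻¹ * (b * n * u) * b) * s) * g⁻¹ by
      group, hx1b, hfin]
    exact hT

end Cfsg.Agent.Chev.InvolOdd
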