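/-
The two classes of involutions and their centralisers.
-/
import Cfsg.Agent.Lib.Chev.InvolOdd.Reduce
import Cfsg.Agent.Lib.Chev.InvolOdd.Count

set_option autoImplicit false
set_option maxHeartbeats 1000000

namespace Cfsg.Agent.Chev.InvolOdd

open Cfsg.Lie Cfsg.Agent.Chev

theorem coprime_prod {q : ℕ} (hq : 2 ≤ q) : ∀ ds : List ℕ, (∀ d ∈ ds, 0 < d) →
    Nat.Coprime q (ds.map fun d => q ^ d - 1).prod
  | [], _ => by simp
  | d :: ds, hd => by
    rw [List.map_cons, List.prod_cons]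
    refine Nat.Coprime.mul_right ?_ (coprime_prod hq ds fun x hx => hd x (List.mem_cons_of_mem _ hx))
    refine Nat.coprime_of_dvd fun p hp h1 h2 => ?_
    have h3 : p ∣ q ^ d := h1.trans (dvd_pow_self q (hd d List.mem_cons_self).ne')
    have h4 := Nat.dvd_sub h3 h2
    rw [Nat.sub_sub_self (Nat.one_le_pow _ _ (by omega))] at h4
    exact hp.one_lt.ne' (Nat.dvd_one.1 h4)

theorem pow_mul_ne {q a b X Y : ℕ} (hq : 2 ≤ q) (hX : Nat.Coprime q X) (hY : Nat.Coprime q Y) (hab : a ≠ b) :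
    q ^ a * X ≠ q ^ b * Y := by
  intro e
  wlog hlt : a < b generalizing a b X Y
  · exact this hY hX (Ne.symm hab) e.symm (by omega)
  obtain ⟨k, rfl⟩ : ∃ k, b = a + (k + 1) := ⟨b - a - 1, by omega⟩
  rw [pow_add, mul_assoc] at e
  have e2 := Nat.eq_of_mul_eq_mul_left (pow_pos (by omega) a) e
  have h1 : q ∣ X := e2 ▸ (dvd_pow_self q k.succ_ne_zero).mul_right Y
  have := Nat.eq_one_of_dvd_coprimes hX dvd_rfl h1
  omega

/-- Conjugate elements have centralisers of the same order. -/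
theorem card_centralizer_eq {G : Type*} [Group G] {s t : G} (h : IsConj s t) :
    Nat.card (Subgroup.centralizer ({s} : Set G)) = Nat.card (Subgroup.centralizer ({t} : Set G)) := by
  obtain ⟨g, hg⟩ := isConj_iff.1 h
  refine Nat.card_congr ((MulAut.conj g).toEquiv.subtypeEquiv fun x => ?_)
  simp only [Subgroup.mem_centralizer_iff, Set.mem_singleton_iff, forall_eq, MulEquiv.toEquiv_eq_coe,
    EquivLike.coe_coe, MulAut.conj_apply, ← hg]
  constructor
  · intro e
    calc g * s * g⁻¹ * (g * x * g⁻¹) = g * (s * x) * g⁻¹ := by group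
      _ = _ := by rw [e]; group
  · intro e
    have : g * (s * x) * g⁻¹ = g * (x * s) * g⁻¹ := by
      calc g * (s * x) * g⁻¹ = g * s * g⁻¹ * (g * x * g⁻¹) := by group
        _ = _ := by rw [e]; group
    exact mul_left_cancel (mul_right_cancel this)

variable {D : ChevalleyDatum} {P : Pk} (h : Ok D P) {F : Type*} [Field F] [Fintype F]
include h

/-- The torus involution of a certificate and its centraliser. -/
theorem exists_class (hC : P.ckComm = true) (hq : ringChar F ≠ 2) {j : ℕ} {K : List ℕ} {G O : List (List ℕ)}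
    {x : List ℤ} {J ds ds0 : List ℕ} (hck : ckCert P j K G O = true) (hx : ckX P j x = true) (hOK : P.ckOrb K = true)
    (hJ : ∀ i < P.rank, i ∈ J) (hOJ : P.ckOrb J = true) (hpJ : P.poinP J = pgeom ds0)
    (hnum : G.length * pev 1 (P.poinP K) * O.length = ds0.prod)
    (hpoly : pmul (psum (G.map (cG P j K))) (P.poinP K) = pgeom ds) (hlen : ds.length = P.rank)
    (hT : Nat.card (D.diagonalSubgroup F) = (Fintype.card F - 1) ^ P.rank) :
    ∃ (c : Fin P.rank → Fˣ) (s : ↥(D.group F)), (s : GL D.Idx F) = h.hHom c ∧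
      (∀ r < P.nroots, hchar P c r = if par P j r then (1 : F) else -1) ∧ orderOf s = 2 ∧
      Nat.card (Subgroup.centralizer ({s} : Set ↥(D.group F))) =
        Fintype.card F ^ nEven P j * (ds.map fun d => Fintype.card F ^ d - 1).prod := by
  obtain ⟨hj, -⟩ := cert_spec h hck
  obtain ⟨c, hc⟩ := exists_parity h (F := F) ⟨x, hx⟩
  have hmem : h.hHom c ∈ D.group F := h.diagonal_le_group (h.mem_diagonal_iff.2 ⟨c, rfl⟩)
  refine ⟨c, ⟨_, hmem⟩, rfl, hc, ?_, ?_⟩
  · rw [← Subgroup.orderOf_coe]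
    refine orderOf_eq_prime ?_ ?_
    · show h.hHom c ^ 2 = 1
      rw [← map_pow, ← map_one (h.hHom (F := F))]
      refine CyclTorus.hHom_ext_char h fun r hr => ?_
      have : hchar P (c ^ 2) r = hchar P c r ^ 2 := by
        simp only [hchar, ← Finset.prod_pow, Pi.pow_apply, Units.val_pow_eq_pow_val]
        exact Finset.prod_congr rfl fun i _ => by rw [← zpow_natCast, ← zpow_natCast, zpow_comm]
      rw [this, hc r hr]
      cases par P j r <;> simp [hchar]
    · intro e
      have e1 := HomSylow.hchar_of_hHom_one h e (h.sim_lt hj)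
      have hp : par P j (P.sim j) = false := by
        rw [par, h.rv_sim hj hj, if_pos rfl]; rfl
      rw [hc _ (h.sim_lt hj), hp, if_neg Bool.false_ne_true] at e1
      exact Ring.neg_one_ne_one_of_char_ne_two hq e1
  · have key := card_centralizer h hC hq hj hJ hc
    have hpow : (Fintype.card F - 1) ^ P.rank * pev (Fintype.card F) (pgeom ds) =
        (ds.map fun d => Fintype.card F ^ d - 1).prod := by
      rw [← pev_pgeom _ Fintype.card_pos ds, mul_comm, hlen]
    rw [stab_sum h hck hOK hJ hOJ (by rw [hpJ, HomSylow.pev_one_pgeom, hnum]), hpoly, hT, mul_assoc, hpow] at key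
    rw [← key]
    refine Nat.card_congr
      { toFun := fun g => ⟨g.1.1, Subgroup.mem_inf.2 ⟨g.1.2, Subgroup.mem_centralizer_iff.2 fun z hz => ?_⟩⟩
        invFun := fun g => ⟨⟨g.1, (Subgroup.mem_inf.1 g.2).1⟩, Subgroup.mem_centralizer_iff.2 fun z hz => ?_⟩
        left_inv := fun g => rfl
        right_inv := fun g => rfl }
    · rw [Set.mem_singleton_iff.1 hz]
      exact congrArg Subtype.val (Subgroup.mem_centralizer_iff.1 g.2 ⟨_, hmem⟩ rfl)
    · rw [Set.mem_singleton_iff.1 hz]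
      exact Subtype.ext (Subgroup.mem_centralizer_iff.1 (Subgroup.mem_inf.1 g.2).2 _ rfl)

/-- Every involution is conjugate to one of two elements of the torus. -/
theorem every_involution (hC : P.ckComm = true) (hR : P.ckRefl = true) (hO : ckOrthSim P = true)
    (hodd : ckOddRoot P = true) (hq : Fintype.card F % 2 = 1) {j j' : ℕ} {O O' : List (List ℕ)}
    (hcov : ckCover P j j' O O' = true) (hO1 : ∀ l ∈ O, WordOk P l) (hO2 : ∀ l ∈ O', WordOk P l)
    {c₁ c₂ : Fin P.rank → Fˣ} {s t : ↥(D.group F)} (hs : (s : GL D.Idx F) = h.hHom c₁)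
    (ht : (t : GL D.Idx F) = h.hHom c₂)
    (h1 : ∀ r < P.nroots, hchar P c₁ r = if par P j r then (1 : F) else -1)
    (h2 : ∀ r < P.nroots, hchar P c₂ r = if par P j' r then (1 : F) else -1)
    (u : ↥(D.group F)) (hu : orderOf u = 2) : IsConj u s ∨ IsConj u t := by
  have huu : (u : GL D.Idx F) * (u : GL D.Idx F) = 1 := by
    have := pow_orderOf_eq_one u
    rw [hu, pow_two] at this
    exact congrArg Subtype.val this
  obtain ⟨g, hg, hgT⟩ := exists_torus_conj h hC hR hO hodd hq u.2 huu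
  have hne : g * (u : GL D.Idx F) * g⁻¹ ≠ 1 := fun e => by
    rw [conj_eq_one_iff] at e
    rw [show u = 1 from Subtype.ext e, orderOf_one] at hu
    omega
  have hsq : g * (u : GL D.Idx F) * g⁻¹ * (g * (u : GL D.Idx F) * g⁻¹) = 1 := by
    rw [show g * (u : GL D.Idx F) * g⁻¹ * (g * u.1 * g⁻¹) = g * (u.1 * u.1) * g⁻¹ by group, huu]
    group
  obtain ⟨g', hg', e | e⟩ := exists_rep h (ne_two h hq) hcov hO1 hO2 h1 h2 hgT hsq hne
  · refine Or.inl (isConj_iff.2 ⟨⟨g'⁻¹ * g, mul_mem (inv_mem hg') hg⟩, Subtype.ext ?_⟩)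
    show g'⁻¹ * g * u.1 * (g'⁻¹ * g)⁻¹ = s.1
    rw [hs, show g'⁻¹ * g * u.1 * (g'⁻¹ * g)⁻¹ = g'⁻¹ * (g * u.1 * g⁻¹) * g' by group, e]
    group
  · refine Or.inr (isConj_iff.2 ⟨⟨g'⁻¹ * g, mul_mem (inv_mem hg') hg⟩, Subtype.ext ?_⟩)
    show g'⁻¹ * g * u.1 * (g'⁻¹ * g)⁻¹ = t.1
    rw [ht, show g'⁻¹ * g * u.1 * (g'⁻¹ * g)⁻¹ = g'⁻¹ * (g * u.1 * g⁻¹) * g' by group, e]
    group

end Cfsg.Agent.Chev.InvolOdd
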