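/-
Tables for the involutions of `E₈`.
-/
import Cfsg.Agent.Lib.Chev.InvolOdd.Main
import Cfsg.Agent.Lib.Chev.InvolOdd.Data
import Cfsg.Agent.Lib.Chev.Smith
import Cfsg.Agent.Lib.Chev.AllW8
import Cfsg.Agent.Lib.Chev.AllR

set_option autoImplicit false
set_option maxRecDepth 20000
set_option Elab.async false

namespace Cfsg.Agent.Chev.InvolOdd

theorem orth_E8 : ckOrthSim E8.pk = true := by decide +kernel
theorem odd_E8 : ckOddRoot E8.pk = true := by decide +kernel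
theorem cert_E8a : ckCert E8.pk 0 [7, 6, 5, 4, 3, 2, 1] gE8a oE8a = true := by decide +kernel
theorem cert_E8b : ckCert E8.pk 7 [6, 5, 4, 3, 2, 1, 0] gE8b oE8b = true := by decide +kernel
theorem orb_E8a : E8.pk.ckOrb [7, 6, 5, 4, 3, 2, 1] = true := by decide +kernel
theorem num_E8a : gE8a.length * pev 1 (E8.pk.poinP [7, 6, 5, 4, 3, 2, 1]) * oE8a.length =
    ([2, 8, 12, 14, 18, 20, 24, 30] : List ℕ).prod := by decide +kernel
theorem num_E8b : gE8b.length * pev 1 (E8.pk.poinP [6, 5, 4, 3, 2, 1, 0]) * oE8b.length =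
    ([2, 8, 12, 14, 18, 20, 24, 30] : List ℕ).prod := by decide +kernel
theorem poly_E8a : pmul (psum (gE8a.map (cG E8.pk 0 [7, 6, 5, 4, 3, 2, 1]))) (E8.pk.poinP [7, 6, 5, 4, 3, 2, 1]) =
    pgeom [8, 2, 4, 6, 8, 10, 12, 14] := by decide +kernel
theorem poly_E8b : pmul (psum (gE8b.map (cG E8.pk 7 [6, 5, 4, 3, 2, 1, 0]))) (E8.pk.poinP [6, 5, 4, 3, 2, 1, 0]) =
    pgeom [2, 2, 6, 8, 10, 12, 14, 18] := by decide +kernel
theorem even_E8 : nEven E8.pk 0 = 56 ∧ nEven E8.pk 7 = 64 := by decide +kernel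
theorem cover_E8 : ckCover E8.pk 0 7 oE8a oE8b = true := by decide +kernel

theorem torus_E8 {F : Type*} [Field F] [Fintype F] :
    Nat.card (Cfsg.Lie.chevE8.diagonalSubgroup F) = (Fintype.card F - 1) ^ E8.pk.rank := by
  have := E8.ok.card_diagonal (F := F) smith_E8
  rw [← this, show E8.pk.rank = 8 from rfl]
  simp [List.range_succ]

end Cfsg.Agent.Chev.InvolOdd
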