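/-
Tables for the involutions of `F₄`.
-/
import Cfsg.Agent.Lib.Chev.InvolOdd.Main
import Cfsg.Agent.Lib.Chev.InvolOdd.Data
import Cfsg.Agent.Lib.Chev.Smith
import Cfsg.Agent.Lib.Chev.AllW
import Cfsg.Agent.Lib.Chev.AllR

set_option autoImplicit false
set_option maxRecDepth 20000

namespace Cfsg.Agent.Chev.InvolOdd

theorem orth_F4 : ckOrthSim F4.pk = true := by decide +kernel
theorem odd_F4 : ckOddRoot F4.pk = true := by decide +kernel
theorem cert_F4a : ckCert F4.pk 0 [3, 2, 1] gF4a oF4a = true := by decide +kernel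
theorem cert_F4b : ckCert F4.pk 3 [2, 1, 0] gF4b oF4b = true := by decide +kernel
theorem orb_F4a : F4.pk.ckOrb [3, 2, 1] = true := by decide +kernel
theorem orb_F4b : F4.pk.ckOrb [2, 1, 0] = true := by decide +kernel
theorem num_F4a : gF4a.length * pev 1 (F4.pk.poinP [3, 2, 1]) * oF4a.length = ([2, 6, 8, 12] : List ℕ).prod := by
  decide +kernel
theorem num_F4b : gF4b.length * pev 1 (F4.pk.poinP [2, 1, 0]) * oF4b.length = ([2, 6, 8, 12] : List ℕ).prod := by
  decide +kernel
theorem poly_F4a : pmul (psum (gF4a.map (cG F4.pk 0 [3, 2, 1]))) (F4.pk.poinP [3, 2, 1]) = pgeom [2, 4, 6, 8] := by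
  decide +kernel
theorem poly_F4b : pmul (psum (gF4b.map (cG F4.pk 3 [2, 1, 0]))) (F4.pk.poinP [2, 1, 0]) = pgeom [2, 2, 4, 6] := by
  decide +kernel
theorem even_F4 : nEven F4.pk 0 = 16 ∧ nEven F4.pk 3 = 10 := by decide +kernel
theorem cover_F4 : ckCover F4.pk 0 3 oF4a oF4b = true := by decide +kernel

theorem torus_F4 {F : Type*} [Field F] [Fintype F] :
    Nat.card (Cfsg.Lie.chevF4.diagonalSubgroup F) = (Fintype.card F - 1) ^ F4.pk.rank := by
  have := F4.ok.card_diagonal (F := F) smith_F4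
  rw [← this, show F4.pk.rank = 4 from rfl]
  simp [List.range_succ]

end Cfsg.Agent.Chev.InvolOdd
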